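import Cfsg.Agent.N2.Ex.Mu.Num.Defs_m3
import Cfsg.Agent.S0205
import Cfsg.Agent.S0144
import Cfsg.Agent.N2.Tri.O7_m3
import Cfsg.Agent.Lib.FinFast
import Cfsg.Agent.N2.Cl.RAlt.Big_m3
import Cfsg.Agent.N2.D4m.Cen_m3
import Cfsg.Agent.N2.Cl.RAlt.Tri_m3
import Cfsg.Agent.N2.Cl.Ten.Main_m3
import Cfsg.Agent.N2.Cl.FrSp.Num_m3
import Cfsg.Agent.N2.Cl.RD.Lin_m3
import Cfsg.Agent.FastGrp
import Cfsg.Agent.Prune
set_option linter.all false

section
prune_inst 0x7ffcadf8abbca9deffff7e77fed8dffdf9949fffa4dff94bffe069df8bdf4382c9c56b8d0be058fe0ed6c81410a87843fb7efeffe26bfc7ffffd5ff45ffbee4ff5f7bd085194883e0fbc2ff6e3f0778e7f3fffffffffffffffffffffffffffbeffbfffffffff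

-- part: N2/Ex/Mu/Num/Base
section
prune_inst 0x35004540346200000000801210002024240005b000200000d82202400a0313220940214002001c02024aa28118010008101000c0400000000a000000000100208008420023240104040091800080000000000000000000000000000000041004000000000
set_option linter.all false
open scoped Cfsg.Agent.FastGrp

/-!
# N2 (S3519), several components, the arithmetic: shared lemmas (helper59)
-/

set_option autoImplicit false
set_option linter.unusedSectionVars false

namespace Cfsg.Agent.N2.Ex.Mu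

open Cfsg Cfsg.Agent.H902 Finset
open Cfsg.Agent.H290.ElReg (Fth)
open Cfsg.Agent.N2.Ex.Sm (Ch sh dimT)
open Cfsg.Agent.SB.Exc (dM)

/-! ### elements -/

section El

variable {q r n : ℕ} {N : Type} [Group N]

theorem El.mono (h : El q N r n) {n' : ℕ} (hn : n' ∣ n) : El q N r n' := by
  obtain ⟨h1, h2, h3, k, h4, h5⟩ := h
  exact ⟨h1, h2, h3, k, h4, hn.trans h5⟩

theorem El.two (h : El q N r n) : El q N r 2 := by
  obtain ⟨h1, h2, h3, k, h4, -⟩ := h
  exact ⟨h1, h2, h3, k, h4, Nat.dvd_lcm_left _ _⟩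

theorem El.dvd (h : El q N r n) : n ∣ r - 1 := by
  obtain ⟨h1, h2, h3, k, ⟨g, j, k1, k2, k3⟩, h5⟩ := h
  have := Fact.mk h1
  have hj : (j : ZMod r) ≠ 0 := fun h0 => by
    rw [ZMod.natCast_eq_zero_iff, ← k1, orderOf_dvd_iff_pow_eq_one] at h0
    rw [h0, isConj_one_left] at k2
    rw [k2, orderOf_one] at k1
    exact h1.ne_one k1.symm
  refine h5.trans (Nat.lcm_dvd (h1.even_sub_one h2).two_dvd (Nat.lcm_dvd (k3.trans (ZMod.orderOf_dvd_card_sub_one hj))
    (ZMod.orderOf_dvd_card_sub_one fun h0 => h3 ((ZMod.natCast_eq_zero_iff _ _).1 h0))))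

theorem El.lt (h : El q N r n) : n < r := by
  have h1 := h.1.two_le
  have := Nat.le_of_dvd (by omega) h.dvd
  omega

theorem El.seven (h : El q N r 6) : 7 ≤ r := h.lt

/-- the order of `q` alone -/
theorem El.of_dvd [Finite N] (hr : r.Prime) (h2 : r ≠ 2) (hq : ¬ r ∣ q) (h : r ∣ Nat.card N) :
    El q N r (Nat.lcm 2 (orderOf (q : ZMod r))) :=
  ⟨hr, h2, hq, 1, Ch.one hr h, by rw [Nat.lcm_one_left]⟩

variable [Finite N]

/-- Burnside: a third prime -/
theorem exists_third (hs : IsSimpleGroup N) (hc : ¬ IsMulCommutative N) {a b : ℕ} (ha : a.Prime) (hb : b.Prime) :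
    ∃ r, r.Prime ∧ r ≠ a ∧ r ≠ b ∧ r ∣ Nat.card N := by
  obtain ⟨i, n, h1, h2⟩ := Nat.exists_eq_pow_mul_and_not_dvd (Nat.card_pos (α := N)).ne' a ha.ne_one
  have h0 : n ≠ 0 := fun h => h1 (h ▸ dvd_zero a)
  obtain ⟨j, k, h3, h4⟩ := Nat.exists_eq_pow_mul_and_not_dvd h0 b hb.ne_one
  obtain ⟨r, hr, h5⟩ := Nat.exists_prime_and_dvd (n := k) fun h =>
    hc ⟨⟨IsSimpleGroup.comm_iff_isSolvable.2 (S0144.result a b i j ha hb (by rw [h2, h4, h, mul_one]))⟩⟩
  have h6 : r ∣ n := h4 ▸ h5.mul_left _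
  exact ⟨r, hr, fun h => h1 (h ▸ h6), fun h => h3 (h ▸ h5), h2 ▸ h6.mul_left _⟩

theorem exists_el5 (hs : IsSimpleGroup N) (hc : ¬ IsMulCommutative N) {p f : ℕ} (hp : p = 2 ∨ p = 3) :
    ∃ r, 5 ≤ r ∧ El (p ^ f) N r 2 := by
  obtain ⟨r, h1, h2, h3, h4⟩ := exists_third hs hc Nat.prime_two Nat.prime_three
  refine ⟨r, h1.five_le_of_ne_two_of_ne_three h2 h3, (El.of_dvd h1 h2 (fun h => ?_) h4).two⟩
  rcases hp with rfl | rfl
  · exact h2 ((Nat.prime_dvd_prime_iff_eq h1 Nat.prime_two).1 (h1.dvd_of_dvd_pow h))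
  · exact h3 ((Nat.prime_dvd_prime_iff_eq h1 Nat.prime_three).1 (h1.dvd_of_dvd_pow h))

theorem card_le_aut (hs : IsSimpleGroup N) (hc : ¬ IsMulCommutative N) : Nat.card N ≤ Nat.card (MulAut N) :=
  Nat.card_le_card_of_injective _ (conj_inj hc)

/-- no faithful representation of degree two in odd characteristic -/
theorem three_le (hs : IsSimpleGroup N) (hc : ¬ IsMulCommutative N) {K : Type} [Field K] {p : ℕ} [CharP K p] (hp : p.Prime)
    (h2 : p ≠ 2) {n : ℕ} (h : Fth n K N) : 3 ≤ n := by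
  by_contra hn
  obtain ⟨ρ, hρ⟩ := h
  have h0 : Even (Nat.card N) := by
    by_contra h0
    exact hc ⟨⟨IsSimpleGroup.comm_iff_isSolvable.2 (S0205.result (Nat.not_even_iff_odd.1 h0))⟩⟩
  obtain ⟨x, hx⟩ := exists_prime_orderOf_dvd_card' (G := N) 2 h0.two_dvd
  have hK : (2 : K) ≠ 0 := fun e => h2 ((Nat.prime_dvd_prime_iff_eq hp Nat.prime_two).1 ((CharP.cast_eq_zero_iff K p 2).1 e))
  have hd : ∀ y, Matrix.GeneralLinearGroup.det (ρ y) = 1 := by
    rcases (MonoidHom.normal_ker (Matrix.GeneralLinearGroup.det.comp ρ)).eq_bot_or_eq_top with k | k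
    · exact absurd ⟨⟨fun a b => (MonoidHom.ker_eq_bot_iff _).1 k (by rw [map_mul, map_mul, mul_comm])⟩⟩ hc
    · exact fun y => k.ge (Subgroup.mem_top y)
  have hz : ∀ y, x * y = y * x := fun y => hρ (Units.ext (by
    rw [map_mul, map_mul, Units.val_mul, Units.val_mul]
    have e1 : (ρ x).val * (ρ x).val = 1 := by rw [← Units.val_mul, ← map_mul, ← pow_two, ← hx, pow_orderOf_eq_one, map_one, Units.val_one]
    have e2 : (ρ x).val.det = 1 := congrArg Units.val (hd x)
    generalize (ρ x).val = A at e1 e2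
    generalize (ρ y).val = B
    obtain rfl | rfl | rfl : n = 0 ∨ n = 1 ∨ n = 2 := by omega
    · exact Subsingleton.elim _ _
    · ext i j
      simp [Matrix.mul_apply, Subsingleton.elim i 0, Subsingleton.elim j 0, mul_comm]
    · rw [Matrix.det_fin_two] at e2
      have a1 := congrFun (congrFun e1 0) 0
      have a2 := congrFun (congrFun e1 0) 1
      have a3 := congrFun (congrFun e1 1) 0
      have a4 := congrFun (congrFun e1 1) 1
      simp only [Matrix.mul_apply, Fin.sum_univ_two, _root_.Fin.isValue, _root_.Matrix.one_apply_eq, _root_.ne_eq, _root_.zero_ne_one, _root_.not_false_eq_true, _root_.Matrix.one_apply_ne, _root_.one_ne_zero] at a1 a2 a3 a4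
      have t : A 0 0 + A 1 1 ≠ 0 := fun t => hK (by linear_combination (A 0 0) * t - a1 - e2)
      have b1 : A 0 1 = 0 := (mul_eq_zero.1 (show A 0 1 * (A 0 0 + A 1 1) = 0 by linear_combination a2)).resolve_right t
      have b2 : A 1 0 = 0 := (mul_eq_zero.1 (show A 1 0 * (A 0 0 + A 1 1) = 0 by linear_combination a3)).resolve_right t
      have b3 : A 1 1 = A 0 0 := sub_eq_zero.1 ((mul_eq_zero.1 (show (A 1 1 - A 0 0) * (A 0 0 + A 1 1) = 0 by
        linear_combination a4 - a1)).resolve_right t)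
      ext i j
      fin_cases i <;> fin_cases j <;> simp [Matrix.mul_apply, Fin.sum_univ_two, b1, b2, b3, mul_comm]))
  rcases (inferInstance : (Subgroup.center N).Normal).eq_bot_or_eq_top with k | k
  · have : x = 1 := Subgroup.mem_bot.1 (k ▸ Subgroup.mem_center_iff.2 fun y => (hz y).symm)
    rw [this, orderOf_one] at hx
    exact absurd hx (by norm_num)
  · exact hc ⟨⟨fun a b => Subgroup.mem_center_iff.1 (k.ge (Subgroup.mem_top b)) a⟩⟩

end El

/-! ### the interface -/

theorem mu_le {ι : Type} [Fintype ι] [DecidableEq ι] (t : ι → ℕ) : mu t ∣ (Fintype.card ι).factorial := by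
  rw [← card_univ, card_eq_sum_card_image t]
  exact Nat.prod_factorial_dvd_factorial_sum _ _

variable {ι : Type} [Fintype ι] [DecidableEq ι] {l : ℕ} {tw : Bool} {p f T : ℕ} {S : ι → Type} [∀ i, Group (S i)] {G : Prop}
  {κ : ℕ} {W : Finset ι → ℕ → ℕ → Prop} {E : ι → Prop} (X : Mx l tw p f T S G κ W E)
include X

theorem Mx.hl : l = 4 ∨ l = 6 ∨ l = 7 ∨ l = 8 := by rcases X.b.typ with k | ⟨-, k | k | k⟩ <;> simp [k]

theorem Mx.dX_eq : N2C.RD.dX (sh l tw) = dimT l := by
  rcases X.hl with rfl | rfl | rfl | rfl <;> cases tw <;> rfl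

theorem Mx.dd_le : Art.dd (sh l tw) (p ^ f) ≤ dM l := by
  rcases X.hl with rfl | rfl | rfl | rfl <;> cases tw <;>
    first | exact le_rfl | exact Nat.le_of_dvd (by decide) (Nat.gcd_dvd_left _ _)

theorem Mx.two_le : 2 ≤ p ^ f := X.b.real.hp.two_le.trans (Nat.le_self_pow (Nat.one_le_iff_ne_zero.1 X.b.real.hf) p)

theorem Mx.tlow : (p ^ f) ^ dimT l ≤ 2 * (Art.dd (sh l tw) (p ^ f) * T) := by
  rw [X.b.real.eq, ← X.dX_eq]
  exact N2C.RD.oX_ge X.two_le X.b.real.ok

/-- **the final inequality** for `q ≥ q₀` -/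
theorem Mx.fin₀ {q₀ : ℕ} (h0 : 0 < q₀) (hq : q₀ ≤ p ^ f) {I : Finset ι} {k o : ℕ} (w : W I k o) {C a b m d : ℕ}
    (hA : (∏ i, Nat.card (S i)) * κ ≤ C * (p ^ f) ^ a * (p ^ f + 1) ^ b) (hd : Art.dd (sh l tw) (p ^ f) ≤ d) (hd0 : 0 < d)
    (he : 3 * k + a + (3 * l + b) + m ≤ dimT l) (hc : 2 * d * C * (q₀ + 1) ^ (3 * l + b) ≤ q₀ ^ (3 * l + b + m)) : G := by
  refine X.a.win I k o w (Nat.le_of_mul_le_mul_left ?_ (show 0 < q₀ ^ (3 * l + b) * (2 * d) by positivity))
  have h1 := X.tlow
  unfold cb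
  generalize p ^ f = q at *
  have h2 : (q + 1) * q₀ ≤ (q₀ + 1) * q := by linarith only [hq]
  calc _ ≤ q₀ ^ (3 * l + b) * (2 * d) * ((q ^ k * (q + 1) ^ l) ^ 3 * (C * q ^ a * (q + 1) ^ b)) := by gcongr
    _ = 2 * d * C * q ^ (3 * k + a) * ((q + 1) * q₀) ^ (3 * l + b) := by rw [mul_pow (q + 1) q₀]; ring
    _ ≤ 2 * d * C * q ^ (3 * k + a) * ((q₀ + 1) * q) ^ (3 * l + b) := by gcongr
    _ = 2 * d * C * (q₀ + 1) ^ (3 * l + b) * q ^ (3 * k + a + (3 * l + b)) := by rw [mul_pow (q₀ + 1) q]; ring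
    _ ≤ q₀ ^ (3 * l + b + m) * q ^ (3 * k + a + (3 * l + b)) := by gcongr
    _ = q₀ ^ (3 * l + b) * (q₀ ^ m * q ^ (3 * k + a + (3 * l + b))) := by ring
    _ ≤ q₀ ^ (3 * l + b) * (q ^ m * q ^ (3 * k + a + (3 * l + b))) := by gcongr
    _ ≤ q₀ ^ (3 * l + b) * q ^ dimT l := by
      rw [← pow_add]
      exact Nat.mul_le_mul_left _ (Nat.pow_le_pow_right (by omega) (by omega))
    _ ≤ q₀ ^ (3 * l + b) * (2 * (d * T)) := Nat.mul_le_mul_left _ (h1.trans (by gcongr))
    _ = _ := by ring

/-- **the final inequality** for `q ≥ 32` -/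
theorem Mx.fin (hq : 32 ≤ p ^ f) {I : Finset ι} {k o : ℕ} (w : W I k o) {C a b : ℕ} (m : ℕ)
    (hA : (∏ i, Nat.card (S i)) * κ ≤ C * (p ^ f) ^ a * (p ^ f + 1) ^ b)
    (he : 3 * k + a + (3 * l + b) + m ≤ dimT l) (hc : 2 * dM l * C * 33 ^ (3 * l + b) ≤ 32 ^ (3 * l + b + m)) : G :=
  X.fin₀ (by norm_num) hq w hA X.dd_le (by unfold dM; split_ifs <;> norm_num) he hc

/-- `|A| ≤ ∏ |Aut (S i)| * c !` -/
theorem Mx.A_le : (∏ i, Nat.card (S i)) * κ ≤ (Fintype.card ι).factorial * ∏ i, Nat.card (MulAut (S i)) := by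
  have h1 : 0 < ∏ i, Nat.card (MulAut (S i)) / Nat.card (S i) := prod_pos fun i _ =>
    have := X.b.fin i
    Nat.div_pos (card_le_aut (X.b.simple i) (X.b.nonab i)) Nat.card_pos
  have h2 := Nat.le_of_dvd (Nat.mul_pos h1 (Nat.factorial_pos _)) (X.a.kdv.trans (Nat.mul_dvd_mul_left _ (mu_le _)))
  refine (Nat.mul_le_mul_left _ h2).trans ?_
  rw [← mul_assoc, ← prod_mul_distrib, mul_comm]
  exact Nat.mul_le_mul_left _ (prod_le_prod' fun i _ => Nat.mul_div_le _ _)

/-- the product bound in the form of `Mx.fin` -/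
theorem Mx.A_sum {e : ι → ℕ} (h : ∀ i, Nat.card (MulAut (S i)) ≤ (p ^ f) ^ e i) {c a : ℕ} (hc : Fintype.card ι ≤ c)
    (ha : ∑ i, e i ≤ a) : (∏ i, Nat.card (S i)) * κ ≤ c.factorial * (p ^ f) ^ a * (p ^ f + 1) ^ 0 := by
  rw [pow_zero, mul_one]
  refine X.A_le.trans (Nat.mul_le_mul (Nat.factorial_le hc) ((prod_le_prod' fun i _ => h i).trans ?_))
  rw [prod_pow_eq_pow_sum]
  exact Nat.pow_le_pow_right (by have := X.two_le; omega) ha

/-- the orbit bound in the form of `Mx.fin` -/
theorem Mx.A_orb {I : Finset ι} {k o : ℕ} (w : W I k o) {e : ι → ℕ} (h : ∀ i ∈ I, Nat.card (S i) ≤ (p ^ f) ^ e i) {c a : ℕ}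
    (hc : Fintype.card ι ≤ c) (ha : ∑ i ∈ I, e i + k ≤ a) :
    (∏ i, Nat.card (S i)) * κ ≤ c ^ I.card * (p ^ f) ^ a * (p ^ f + 1) ^ l := by
  refine (X.a.orb I k o w).trans ?_
  rw [cb, ← mul_assoc, mul_assoc (c ^ I.card)]
  rw [← mul_assoc (c ^ I.card)]
  refine Nat.mul_le_mul_right _ ?_
  calc _ ≤ (∏ i ∈ I, c * (p ^ f) ^ e i) * (p ^ f) ^ k := Nat.mul_le_mul_right _ (prod_le_prod' fun i hi =>
        Nat.mul_le_mul ((card_le_univ _).trans hc) (h i hi))
    _ = c ^ I.card * (p ^ f) ^ (∑ i ∈ I, e i + k) := by rw [prod_mul_distrib, prod_const, prod_pow_eq_pow_sum, pow_add, mul_assoc]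
    _ ≤ _ := Nat.mul_le_mul_left _ (Nat.pow_le_pow_right (by have := X.two_le; omega) ha)

theorem Mx.A_orb2 {i j : ι} (hij : i ≠ j) {k o : ℕ} (w : W {i, j} k o) {e e' c a : ℕ} (h : Nat.card (S i) ≤ (p ^ f) ^ e)
    (h' : Nat.card (S j) ≤ (p ^ f) ^ e') (hc : Fintype.card ι ≤ c) (ha : e + e' + k ≤ a) :
    (∏ i, Nat.card (S i)) * κ ≤ c ^ 2 * (p ^ f) ^ a * (p ^ f + 1) ^ l := by
  have h1 := X.A_orb w (e := fun x => if x = i then e else e') (a := a) (fun x hx => by
    rcases mem_insert.1 hx with rfl | hx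
    · simpa only [↓ _root_.reduceIte] using h
    · rw [mem_singleton.1 hx, if_neg hij.symm]; exact h') hc (by rwa [sum_pair hij, if_pos rfl, if_neg hij.symm])
  rwa [card_pair hij] at h1

/-- the number of components in odd characteristic -/
theorem Mx.card_odd (hp : p ≠ 2) : Fintype.card ι ≤ col l 3 4 5 7 := by
  obtain ⟨K, _, _, -, h⟩ := X.b.deg
  have h1 := h (fun _ => 3) (fun _ => le_rfl) fun i n k =>
    have := X.b.fin i
    three_le (X.b.simple i) (X.b.nonab i) X.b.real.hp hp k
  rw [sum_const, offDiag_card, card_univ, smul_eq_mul] at h1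
  generalize Fintype.card ι = c at h1
  by_contra h2
  have h3 : ∀ a, a < c → (a + 1) * a * 9 ≤ 2 * dimT l := fun a ha => by
    refine le_trans (Nat.mul_le_mul_right _ ?_) h1
    rw [← Nat.mul_sub_one]
    exact Nat.mul_le_mul ha (by omega)
  have h4 := h3 _ (not_le.1 h2)
  rcases X.hl with rfl | rfl | rfl | rfl <;> exact absurd h4 (by decide)

theorem Mx.exists_el5 (hp : p = 2 ∨ p = 3) (i : ι) : ∃ r, 5 ≤ r ∧ El (p ^ f) (S i) r 2 :=
  have := X.b.fin i
  Mu.exists_el5 (X.b.simple i) (X.b.nonab i) hp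

/-- the number of components, `p ≤ 3` -/
theorem Mx.card_le (hp : p = 2 ∨ p = 3) : Fintype.card ι ≤ col l 4 6 7 9 := by
  choose r h using X.exists_el5 hp
  have := X.b.two
  obtain ⟨j₀⟩ : Nonempty ι := inferInstance
  obtain ⟨ρ, e, h3, -⟩ := X.c.c1 univ j₀ r (fun _ => 2) (mem_univ _) fun j _ => h j
  rw [Rc, sum_const, card_erase_of_mem (mem_univ _), card_univ, rk1] at h3
  rcases X.hl with rfl | rfl | rfl | rfl <;> simp only [col, _root_.Nat.totient_two, _root_.smul_eq_mul, _root_.mul_one, _root_.Nat.reduceEqDiff, _root_.Nat.reduceDvd, _root_.and_self, ↓ _root_.reduceIte, _root_.false_and, _root_.Nat.add_one_sub_one, _root_.ge_iff_le, _root_.and_false, _root_.Nat.succ_ne_self, _root_.true_and] at h3 ⊢ <;> (try split_ifs at h3) <;> omega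

end Cfsg.Agent.N2.Ex.Mu

private theorem dce_19f5f6cb09ec : _root_.True := by
  try have : _root_.True := by simp only [_root_.Cfsg.Agent.N2.Ex.Mu.cb.eq_1]
  try have : _root_.True := by simp only [_root_.Cfsg.Agent.N2.Ex.Mu.rk1.eq_1]
  try have : _root_.True := by simp only [_root_.Cfsg.Agent.N2.Ex.Mu.col.eq_1]
  try have : _root_.True := by simp only [_root_.Cfsg.Agent.N2.Ex.Mu.Rc.eq_1]
  exact _root_.True.intro
end

-- part: N2/Ex/Mu/Num/SCv_mg
section
prune_inst 0x35207544356210000000801252002026a60005b0002b0001f92207420a87d32389422740fa101e00136ab2a54879c008101000d9401000002a008200411900a0842b526633741d04340091c09086080c00000000000000000000000000041004000000000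
set_option linter.all false
open scoped Cfsg.Agent.FastGrp

/-- decoders of the packed data (elaboration time only) -/
private noncomputable def pk61d (b S i : Nat) : Nat := Nat.mod (Nat.shiftRight S (Nat.mul b i)) (Nat.shiftLeft (nat_lit 1) b)
private noncomputable def pk61f {α : Type} (t : Nat) (f : Nat → α) : α := Nat.rec (f Nat.zero) (fun k _ => f (Nat.succ k)) t
private noncomputable def pk61l {α : Type} (f : Nat → α) (s e : Nat) (tl : List α) : List α :=
  pk61f e fun e => Nat.rec tl (fun k ih => List.cons (pk61f (Nat.sub e (Nat.succ k)) f) ih) (Nat.sub e s)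
private noncomputable def lq26cc951e13 {T : Sort _} (f :
    type_of% (@_root_.List.cons.{0}) →
    type_of% (@_root_.Prod.mk.{0, 0}) →
    type_of% (@_root_.List.nil.{0}) →
    type_of% (@_root_.Option.some.{0}) →
    type_of% (@_root_.Option.none.{0}) →
    type_of% (@_root_.Bool.true) →
    type_of% (@_root_.Cfsg.Agent.N2.Ex.Mu.gT) →
    type_of% (@_root_.Cfsg.Agent.N2.Ex.Mu.SZ) →
    type_of% (@_root_.Cfsg.Agent.N2.Ex.Mu.X3) →
    type_of% (@_root_.Cfsg.Agent.N2.Ex.Mu.g3) → T) : T :=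
  f (@_root_.List.cons.{0}) (@_root_.Prod.mk.{0, 0}) (@_root_.List.nil.{0}) (@_root_.Option.some.{0}) (@_root_.Option.none.{0}) (@_root_.Bool.true) (@_root_.Cfsg.Agent.N2.Ex.Mu.gT) (@_root_.Cfsg.Agent.N2.Ex.Mu.SZ) (@_root_.Cfsg.Agent.N2.Ex.Mu.X3) (@_root_.Cfsg.Agent.N2.Ex.Mu.g3)

-- part: N2/Ex/Mu/Num/SDefs
section
/-!
# N2 (S3519), several components, `q < 32`: records, rules, search (helper83)

`Rec`, `Ok` : the data of a component.  A fact `some (k, o, u)` says `W I k o'` with `o' ∣ o` (if `o ≠ 0`) and bounds the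
factor of `MA.orb` by `u` (if `u ≠ 0`); `none` is a contradiction.  Mirror: `notes/N2/mu_eng83.py.txt`.
-/

set_option autoImplicit false

namespace Cfsg.Agent.N2.Ex.Mu.Sq

open Cfsg Finset

/-- order `t`, `|Aut| ∣ ou * t`, pairs `(r, n)` with `El`, a subgroup `3 ^ 2` -/
structure Rec where
  t : ℕ
  ou : ℕ
  el : List (ℕ × ℕ)
  e9 : Bool

/-- the record `x` describes `N` -/
structure Ok (q : ℕ) (N : Type) [Group N] (x : Rec) : Prop where
  card : Nat.card N = x.t
  aut : Nat.card (MulAut N) ∣ x.ou * x.t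
  pos : 0 < x.ou
  el : ∀ e ∈ x.el, El q N e.1 e.2
  e9 : x.e9 = true → ∃ a b : N, orderOf a = 3 ∧ orderOf b = 3 ∧ a * b = b * a ∧ b ≠ a ∧ b ≠ a⁻¹

/-- rank, characteristic, order of the field, order of the group, bound for the number of components -/
structure Par where
  l : ℕ
  p : ℕ
  q : ℕ
  T : ℕ
  M : ℕ

/-- facts -/
abbrev Fct : Type := Option (ℕ × ℕ × ℕ)

/-- evaluate first -/
def fo {α : Type} (n : ℕ) (f : ℕ → α) : α := Nat.rec (motive := fun _ => α) (f 0) (fun k _ => f (Nat.succ k)) n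

theorem fo_eq {α : Type} (n : ℕ) (f : ℕ → α) : fo n f = f n := by cases n <;> rfl

/-- one member and the others -/
def picks {α : Type} (l : List α) : List (α × List α) :=
  List.rec (motive := fun _ => List (α × List α)) [] (fun a l ih => (a, l) :: ih.map fun z => (z.1, a :: z.2)) l

/-- a lower bound for the totient -/
def ph (n : ℕ) : ℕ := if n = 2 then 1 else if n = 4 ∨ n = 6 then 2 else 0

/-- an upper bound for `rk1` -/
def rk (l r n : ℕ) : ℕ := if l = 6 ∧ n = 4 then 3 else if l = 8 ∧ r = 5 then 8 else l - ph n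

/-- `Cb.bd` -/
def bdT (l n : ℕ) : ℕ := if n = 4 then col l 8 12 26 60 else if n = 6 then col l 6 24 30 72 else col l 18 40 72 126

/-- the bound of the averaging -/
def avg (e nx r : ℕ) : ℕ := fo (min e (nx - 1)) fun e => (r * e + nx - e - 1) / r / 2 * 2

variable (P : Par)

/-- one component (`t0`, and `t2` with any partner) -/
def r1 (a : Rec) : List Fct := a.el.flatMap fun e =>
  some (bdT P.l e.2, e.1, P.M * a.t) ::
    if P.p ≠ 2 ∧ (P.l = 4 ∨ e.2 = 4 ∨ e.2 = 6) then [(gT P.l 2 e.2).map fun k => (k, 0, 0)] else []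

/-- two components (`e9`, `t2`, `t3`, `c7`, `c1`) -/
def r2 (a b : Rec) : List Fct := (beta% delta% lq26cc951e13 fun c d f h i j m n _ _ =>
 fo (P.M * a.t * (P.M * b.t)) fun u =>
 (if a.e9 = j ∧ P.l = 4 ∧ 5 ≤ P.p then (c (h (d 8<|d 6 u))<|f) else f) ++ a.el.flatMap fun e =>
 (if P.l = 4 ∨ e.2 = 4 ∨ e.2 = 6 then
 (if P.p ≠ 2 then (c ((m P.l 2 e.2).map fun k => (d k<|d (2 * e.1) u))<|f)
 else if 5 ≤ e.1 ∧ b.t % 3 = 0 then (c ((m P.l 3 e.2).map fun k => (d k<|d (3 * e.1) u))<|f) else f) else f) ++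
 (if P.l = 7 ∧ e.2 = 4 ∧ P.p ≠ 3 ∧ b.t % 3 = 0 ∧ b.el.any (fun e' => ph e'.2 = 2) = j then (c (h (d 14<|d (3 * e.1) u))<|f) else f) ++
 (if 5 ≤ e.1 then b.el.flatMap fun e' => if 5 ≤ e'.1 then
 (if rk P.l e.1 e.2 < ph e'.2 then (c i<|f) else if e.1 ≠ e'.1 then (c (h (d (n P.l (rk P.l e.1 e.2 - ph e'.2))<|d (e.1 * e'.1) u))<|f) else f)
 else f else f))

/-- three components (`t33`) -/
def r3 (K : List Rec) : List Fct :=
  if 5 ≤ P.p ∧ P.l ≠ 8 ∧ 3 ≤ (K.filter fun a => a.t % 3 = 0).length then [some (col P.l 6 10 24 0, 0, 0)] else []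

/-- the row `n = 2`; `A` contains the records of all components, there are at least `n` components -/
def rN (A : List Rec) (n : ℕ) : List Fct :=
  if P.l ≠ 4 ∧ A.all (fun a => a.ou * a.t < P.q ^ nt P.l) = true then
    (if P.p ≠ 2 then [some (gN P.l 2, 0, 0)] else []) ++
      if P.p ≠ 3 ∧ A.all (fun a => a.t % 3 = 0 && a.el.any fun e => 5 ≤ e.1) = true then
        [some (if P.l = 6 ∧ 3 ≤ n then 12 else gN P.l 3, 0, 0)] else []
  else []

/-- the element for the chains -/
def best (a : Rec) : Option (ℕ × ℕ) := (a.el.find? fun e => 5 ≤ e.1 ∧ ph e.2 = 2).or (a.el.find? fun e => 5 ≤ e.1)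

/-- the first member of the chain -/
def fst0 (J : List (ℕ × ℕ)) : Option (ℕ × ℕ) := J.argmin fun e => rk P.l e.1 e.2 + ph e.2

/-- the sum of the weights -/
def wt (J : List (ℕ × ℕ)) : ℕ := (J.map fun e => ph e.2).sum

/-- the least prime -/
def rmin (J : List (ℕ × ℕ)) : ℕ := (J.map Prod.fst).foldr min 1000

/-- the chain `c1` -/
def rC1 (K : List Rec) : List Fct :=
  match fst0 P (K.filterMap best) with
  | none => []
  | some e => fo (wt (K.filterMap best)) fun s => fo (rk P.l e.1 e.2 + ph e.2) fun a =>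
    if a < s then [none] else fo (avg (SZ P.l (a - s)) (SZ P.l P.l) (rmin (K.filterMap best))) fun k =>
      [some (if P.l = 4 ∧ k < 18 then min k 8 else k, 0, 0)]

/-- the chain `c3`: `x` gives the element of order three, `K` the chain -/
def rC3 (b : Bool) (x : Rec) (K : List Rec) : List Fct :=
  if P.p ≠ 3 ∧ x.t % 3 = 0 then
    (beta% delta% lq26cc951e13 fun c d f h i _ _ n o q =>
 match fst0 P (K.filterMap best) with
 | none => f
 | some e => fo (wt (K.filterMap best)) fun s => fo (rk P.l e.1 e.2 + ph e.2) fun a => fo (rmin (K.filterMap best)) fun r =>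
 match (o P.l b).filterMap fun y =>
 if y.2 < s ∨ a ≤ s then i else h (avg (n P.l (if a - s ≤ q P.l then min (y.2 - s) (a - s - 1) else y.2 - s)) y.1 r) with
 | [] => (c i<|f)
 | k :: ks => (c (h (d (ks.foldr max k)<|d 0 0))<|f) :
 List Cfsg.Agent.N2.Ex.Mu.Sq.Fct)
  else []

/-- the cheap facts -/
def fA (K : List Rec) : List Fct := K.flatMap (r1 P) ++ (picks K).flatMap fun z => z.2.flatMap (r2 P z.1)

/-- the other facts; `tb` contains the records of the components outside `K` -/
def fB (K tb : List Rec) : List Fct :=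
  r3 P K ++ rN P (K ++ tb) K.length ++ rC1 P K ++ (picks K).flatMap fun z => rC3 P true z.1 z.2

/-- the least `k`; `none` : a contradiction -/
def kmin (F : List Fct) (k₀ : ℕ) (c : ℕ → Bool) : Bool :=
  List.rec (motive := fun _ => ℕ → Bool) c (fun φ _ ih k => Option.rec true (fun z => fo (min z.1 k) ih) φ) F k₀

/-- the least orbit bound -/
def umin (F : List Fct) (u₀ : ℕ) (c : ℕ → Bool) : Bool :=
  List.rec (motive := fun _ => ℕ → Bool) c
    (fun φ _ ih u => Option.rec true (fun z => cond (Nat.beq z.2.2 0) (ih u) (fo (min (z.2.2 * cb P.l P.q z.1) u) ih)) φ) F u₀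

/-- the test of `MA.win`; the start value `1000` of `kmin` never wins -/
def ok (A k : ℕ) : Bool := Nat.blt k 1000 && Nat.ble (cb P.l P.q k ^ 3 * A) P.T

/-- the number of the permutations which keep the orders -/
def muL (t : List ℕ) : ℕ := (t.dedup.map fun v => (t.count v).factorial).prod

/-- a bound for `|A|` -/
def aB (K tb : List Rec) : ℕ := (K.map fun a => a.ou * a.t).prod *
  (if tb = [] ∨ P.M ≤ K.length then muL (K.map Rec.t) else ((tb.map fun a => a.ou * a.t).foldr max 1) ^ (P.M - K.length) * P.M.factorial)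

/-- the test of `MA.winK` -/
def okK (K : List Rec) (F : List Fct) : Bool :=
  fo ((K.map Rec.ou).prod * muL (K.map Rec.t)) fun u => fo (K.map Rec.t).prod fun E =>
    F.any fun φ => Option.rec true (fun z => !Nat.beq z.2.1 0 && Nat.beq (Nat.gcd z.2.1 u) 1 && ok P E z.1) φ

/-- **the test**: the members of `K` are components, the other components have records in `tb` -/
def win (K tb : List Rec) : Bool :=
  !Nat.beq (P.T % (K.map Rec.t).prod) 0 || umin P (fA P K) (aB P K tb) fun A => kmin (fA P K) 1000 fun k => ok P A k ||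
    (kmin (fB P K tb) k (ok P A) ||
      ((Nat.beq P.l 6 && Nat.ble 2 ((picks K).filter fun z => kmin (rC3 P false z.1 z.2) 1000 (ok P A)).length) ||
        (tb.isEmpty && okK P K (fA P K))))

/-- the loop over the rest of the list -/
def step (nx : List Rec → List Rec → Bool) (K tb : List Rec) : Bool :=
  List.rec (motive := fun _ => Bool) true (fun a tb ih =>
    (win P (a :: K) (a :: tb) || ((K.isEmpty || win P (a :: K) []) && nx (a :: K) (a :: tb))) && ih) tb

/-- the search -/
def dfs (fuel : ℕ) : List Rec → List Rec → Bool :=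
  Nat.rec (motive := fun _ => List Rec → List Rec → Bool) (fun _ _ => true) (fun _ ih => step P ih) fuel

/-- evaluate a list of pairs first -/
def foE (l : List (ℕ × ℕ)) (c : List (ℕ × ℕ) → Bool) : Bool :=
  List.rec (motive := fun _ => (List (ℕ × ℕ) → Bool) → Bool) (fun c => c [])
    (fun e _ ih c => fo e.1 fun r => fo e.2 fun n => ih fun l => c ((r, n) :: l)) l c

/-- evaluate the records with the property `g` first, drop the others -/
def foL (g : Rec → Bool) (L : List Rec) (c : List Rec → Bool) : Bool :=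
  List.rec (motive := fun _ => (List Rec → Bool) → Bool) (fun c => c [])
    (fun a _ ih c => fo a.t fun t => fo a.ou fun ou => foE a.el fun el =>
      cond a.e9 (cond (g ⟨t, ou, el, true⟩) (ih fun l => c (⟨t, ou, el, true⟩ :: l)) (ih c))
        (cond (g ⟨t, ou, el, false⟩) (ih fun l => c (⟨t, ou, el, false⟩ :: l)) (ih c))) L c

/-- **the kernel test**: two rounds of the filter by one record, then the search -/
def chk (L : List Rec) : Bool :=
  foL (fun a => Nat.beq (P.T % a.t) 0) L fun L => foL (fun a => !win P [a] L) L fun L => foL (fun a => !win P [a] L) L fun L =>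
    dfs P P.M [] L

/-- the parameters -/
def par (l : ℕ) (tw : Bool) (p f : ℕ) : Par :=
  ⟨l, p, p ^ f, (p ^ f) ^ H902.Art.NN (Sm.sh l tw) * H902.Art.num (Sm.sh l tw) (p ^ f) / H902.Art.dd (Sm.sh l tw) (p ^ f),
    if p = 2 then col l 4 6 7 9 else col l 3 4 5 7⟩

/-! ### soundness: statements -/

section

variable {ι : Type} [Fintype ι] [DecidableEq ι] (S : ι → Type) [∀ i, Group (S i)] (G : Prop) (W : Finset ι → ℕ → ℕ → Prop)

/-- the meaning of a fact -/
def Holds : Fct → Prop
  | none => G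
  | some z => G ∨ ∃ I o, W I z.1 o ∧ (z.2.1 ≠ 0 → o ∣ z.2.1) ∧
      (z.2.2 ≠ 0 → ∏ i ∈ I, #{j | Nat.card (S j) = Nat.card (S i)} * Nat.card (S i) ≤ z.2.2)

end

/-- a statement on `Mx` with records -/
noncomputable def OnR (Q : ∀ (_ : Par) (ι : Type) [Fintype ι] [DecidableEq ι] (S : ι → Type) [∀ i, Group (S i)] (_ : Prop)
    (_ : Finset ι → ℕ → ℕ → Prop) (_ : ι → Prop) (_ : ι → Rec), Prop) : Prop :=
  ∀ (l : ℕ) (tw : Bool) (p f T M : ℕ) (ι : Type) [Fintype ι] [DecidableEq ι] (S : ι → Type) [∀ i, Group (S i)] (G : Prop) (κ : ℕ)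
    (W : Finset ι → ℕ → ℕ → Prop) (E : ι → Prop) (x : ι → Rec), Mx l tw p f T S G κ W E → (∀ i, Ok (p ^ f) (S i) (x i)) →
    Fintype.card ι ≤ M → Q ⟨l, p, p ^ f, T, M⟩ ι S G W E x

/-- **[R1]** -/
def BoxR1 : Prop := OnR fun P _ _ _ S _ G W _ x => ∀ i, ∀ φ ∈ r1 P (x i), Holds S G W φ

/-- **[R2]** -/
def BoxR2 : Prop := OnR fun P _ _ _ S _ G W _ x => ∀ i j, i ≠ j → ∀ φ ∈ r2 P (x i) (x j), Holds S G W φ

/-- **[R3]** -/
def BoxR3 : Prop := OnR fun P ι _ _ S _ G W _ x => ∀ li : List ι, li.Nodup → ∀ φ ∈ r3 P (li.map x), Holds S G W φ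

/-- **[RN]** -/
def BoxRN : Prop := OnR fun P ι _ _ S _ G W _ x => ∀ (A : List Rec) (n : ℕ), (∀ i, x i ∈ A) → n ≤ Fintype.card ι →
  ∀ φ ∈ rN P A n, Holds S G W φ

/-- **[C1]** -/
def BoxC1 : Prop := OnR fun P ι _ _ S _ G W _ x => ∀ li : List ι, li.Nodup → ∀ φ ∈ rC1 P (li.map x), Holds S G W φ

/-- **[C3]** -/
def BoxC3 : Prop := OnR fun P ι _ _ S _ G W E x => ∀ (b : Bool) (i : ι) (li : List ι), li.Nodup → i ∉ li → (b = false → ¬ E i) →
  ∀ φ ∈ rC3 P b (x i) (li.map x), Holds S G W φ

/-- **[Win]** -/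
def BoxWin : Prop := OnR fun P ι _ _ _ _ G _ _ x => ∀ (li : List ι) (tb : List Rec), li.Nodup → (∀ i, i ∉ li → x i ∈ tb) →
  win P (li.map x) tb = true → G

/-- **[Chk]** -/
def BoxChk : Prop := OnR fun P _ _ _ _ _ G _ _ x => ∀ L : List Rec, (∀ i, x i ∈ L) → chk P L = true → G

/-- **[Cand]** the data: `cand p f` contains a record of every component -/
def BoxCand (cand : ℕ → ℕ → List Rec) : Prop :=
  Cf → ∀ (l : ℕ) (tw : Bool) (p f T : ℕ) (ι : Type) [Fintype ι] [DecidableEq ι] (S : ι → Type) [∀ i, Group (S i)] (G : Prop) (κ : ℕ)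
    (W : Finset ι → ℕ → ℕ → Prop) (E : ι → Prop), Mx l tw p f T S G κ W E → p ^ f < 32 → (∀ i, NoBig (p ^ f) (S i)) →
    ∀ i, ∃ x ∈ cand p f, Ok (p ^ f) (S i) x

/-- **[Run]** -/
def BoxRun (cand : ℕ → ℕ → List Rec) (l : ℕ) : Prop :=
  ∀ (tw : Bool) (p f : ℕ), (l = 6 ∨ tw = false) → p.Prime → 0 < f → p ^ f < 32 → chk (par l tw p f) (cand p f) = true

end Cfsg.Agent.N2.Ex.Mu.Sq
end

-- part: N2/Ex/Mu/Num/SRec
section
/-!
# N2 (S3519), several components, `q < 32`: the records (helper69)

`LQ q` : the simple groups without a big automizer, sorted by the bound `ou * t` for the order of the automorphism group.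
-/

set_option autoImplicit false

namespace Cfsg.Agent.N2.Ex.Mu.Sd

open Cfsg
open Cfsg.Agent.H290.ElReg (Fth)

/-- order `t`, `|Aut|` divides `ou * t`, degrees at least `R`, pairs `(r, n)` with `El q N r n` -/
structure Rec where
  t : ℕ
  ou : ℕ
  R : ℕ
  el : List (ℕ × ℕ)

/-- the record `x` describes `N` -/
structure Ok (p f : ℕ) (N : Type) [Group N] (x : Rec) : Prop where
  card : Nat.card N = x.t
  aut : Nat.card (MulAut N) ∣ x.ou * x.t
  pos : 0 < x.ou
  deg : ∀ (K : Type) [Field K] [CharP K p] (n : ℕ), Fth n K N → x.R ≤ n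
  el : ∀ y ∈ x.el, El (p ^ f) N y.1 y.2

/-- oplus4(2), S4(7), U4(3), A10, psp3(2), J2*, U3(5), A9, psl3(4), L2(49), psu4(2), psl4(2), U3(3), A7, psl2(8), A6, psl3(2), psl2(4) -/
def L2 : List Rec := (beta% delta% lq26cc951e13 fun c d f _ _ _ _ _ _ _ =>
 (c ⟨174182400, 6, 0, (c (d 3 2)<|c (d 5 4)<|c (d 7 6)<|f)⟩<|c ⟨138297600, 2, 24, (c (d 3 2)<|c (d 5 4)<|c (d 7 6)<|f)⟩<|
 c ⟨3265920, 8, 18, (c (d 3 2)<|c (d 5 4)<|c (d 7 6)<|f)⟩<|c ⟨1814400, 2, 8, (c (d 3 2)<|c (d 5 4)<|c (d 7 6)<|f)⟩<|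
 c ⟨1451520, 1, 0, (c (d 3 2)<|c (d 5 4)<|c (d 7 6)<|f)⟩<|c ⟨604800, 2, 6, (c (d 3 2)<|c (d 5 4)<|c (d 7 6)<|f)⟩<|
 c ⟨126000, 6, 20, (c (d 3 2)<|c (d 5 4)<|c (d 7 6)<|f)⟩<|c ⟨181440, 2, 7, (c (d 3 2)<|c (d 5 4)<|c (d 7 6)<|f)⟩<|c ⟨20160, 12, 0, (c (d 3 2)<|c (d 5 4)<|c (d 7 6)<|f)⟩<|
 c ⟨58800, 4, 24, (c (d 3 2)<|c (d 5 4)<|c (d 7 6)<|f)⟩<|c ⟨25920, 2, 0, (c (d 3 2)<|c (d 5 4)<|f)⟩<|c ⟨20160, 2, 0, (c (d 3 2)<|c (d 5 4)<|c (d 7 6)<|f)⟩<|
 c ⟨6048, 2, 6, (c (d 3 2)<|c (d 7 6)<|f)⟩<|c ⟨2520, 2, 4, (c (d 3 2)<|c (d 5 4)<|c (d 7 6)<|f)⟩<|c ⟨504, 3, 0, (c (d 3 2)<|c (d 7 6)<|f)⟩<|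
 c ⟨360, 4, 4, (c (d 3 2)<|c (d 5 4)<|f)⟩<|c ⟨168, 2, 0, (c (d 3 2)<|c (d 7 6)<|f)⟩<|c ⟨60, 2, 0, (c (d 3 2)<|c (d 5 4)<|f)⟩<|f))

/-- oplus4(3), psp3(3)/oodd3(3), S4(8), O+8(2), 3D4(2), G2(4), S4(7), psl3(9), Tits, psu4(3), psl4(3), S4(5), g2(3), A10, L2(64), S6(2), J2, U3(5), A9, U3(4), L3(4), L2(49), Sz(8), psl2(27), psp2(3), A8, L2(25), psu3(3), psl3(3), A7, L2(13), L2(8), psl2(9), L2(7), A5 -/
def L3 : List Rec :=
  (by
  refine (?fq9001 : ((pk61l (fun i1 => (_root_.Cfsg.Agent.N2.Ex.Mu.Sd.Rec.mk (pk61d (nat_lit 43) 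
    (nat_lit 0xf0000000005400000000168000000003f00000000111000000004ec000000015f000000002f40000000079e000000027600000000654000000004cc80000001c70000000072d800000004ec00000001e780000000b1300000000f61800000093a80000002c4c00000000fff0000000dd7c00000040c8c0000008ed28000001723200000018eac000001123800000050faf0000020f9040000077f88000000c98d00000014c3a000000fbf040000088a7750048104eb3000) i1) (pk61d (nat_lit 5) 
    (nat_lit 0x844188421104230c8c208c209842111022084331858) i1) (pk61d (nat_lit 6) 
    (nat_lit 0x30c31c61030cc1c30c760f30750c1ff2033030d80d831043f0c3) i1) ((fun g1 : Nat → Nat => pk61l (fun i2 => (_root_.Prod.mk (pk61d (nat_lit 4) 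
    (nat_lit 0x5757d775d7d5755d7d757575d575757575d7575d7d5d575d5d7575d75d775d75d75d75) i2) (pk61d (nat_lit 3) 
    (nat_lit 0x269b6d36d349b6d34d34d34d34da69b69a69a6d34da6da6d369b4) i2))) (g1 i1) (g1 (Nat.succ i1)) List.nil) fun j => (pk61d (nat_lit 7) 
    (nat_lit 0x8d162438501f3d78e9c376ac982e58a94264884f9d3664b95244068b1218180) j)))) (nat_lit 0) (nat_lit 35) List.nil) : List Rec)
    = ?xq9001 → (List Rec)) ?hq9001; (case hq9001 => (set_option maxRecDepth 1000000 in set_option simprocs false in conv => lhs; reduce; dsimp only)); intro _; exact ?xq9001 : List Rec)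

/-- oplus4(4), psp3(4), psl3(16), S6(3), He, psu4(4), psl4(4), oplus4(2), g2(4), ominus4(2), S4(7), L3(9), Tits, U4(3), L4(3), S4(5), G2(3), psp2(4), A10, psl2(64), psp3(2), J2*, U3(5), A9, psu3(4), psl3(4), L2(49), L2(27), psu4(2), psl4(2), L2(25), psl2(16), U3(3), L3(3), A7, L2(17), L2(13), psl2(8), A6, psl3(2), psl2(4) -/
def L4 : List Rec :=
  (by
  refine (?fq9002 : ((pk61l (fun i1 => (_root_.Cfsg.Agent.N2.Ex.Mu.Sd.Rec.mk (pk61d (nat_lit 56) 
    (nat_lit 0x3c000000000000a800000000000168000000000001f80000000000044400000000000990000000000009d8000000000015f0000000000017a000000000000ff000000000001e7800000000004ec000000000006540000000000026640000000000e5b000000000004ec00000000000f3c00000000002c4c00000000001ec3000000000093a80000000001626000000000003ffc0000000001baf80000000000ef1000000000040c8c000000000476940000000005c8c800000000031d580000000011238000000000287d780000000083e41000000000bc430000000000eff10000000000a61d0000000003ad4f0000000003cb31000000000f03ad400000001114eea0000000054fab0000003bc043c0000ee120df1000000)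 i1) (pk61d (nat_lit 5) 
    (nat_lit 0x21106210842210423118411841308821110220842310821604c) i1) (pk61d (nat_lit 7) 
    (nat_lit 0x10006101040600300001a600000e50300002000e1868918a060000000002a1a00000) i1) ((fun g1 : Nat → Nat => pk61l (fun i2 => (_root_.Prod.mk (pk61d (nat_lit 5) 
    (nat_lit 0x519c6519c6d38e233946d19c7128da519ca328da719ca33946d28ce519ca33946728da728ce51c4a369c6d28da519ca36946d3946728e2728da728ce51c4e51c5a51c4e51b4e51c5a728e2d3947169ca3) i2) (pk61d (nat_lit 3) 
    (nat_lit 0x2592596ca2c965944b25a28b6592c964b2592c968b64b2512d964b2592c96c964a68b64b45325325325b25364a6c94d92) i2))) (g1 i1) (g1 (Nat.succ i1)) List.nil) fun j => (pk61d (nat_lit 8) 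
    (nat_lit 0x817f7d7b797674716f6d6a6764625f5c595653504d4a4643403d3a3734312d2a26221f1b17130f0a0500) j)))) (nat_lit 0) (nat_lit 41) List.nil) : List Rec)
    = ?xq9002 → (List Rec)) ?hq9002; (case hq9002 => (set_option maxRecDepth 1000000 in set_option simprocs false in conv => lhs; reduce; dsimp only)); intro _; exact ?xq9002 : List Rec)

/-- oplus4(5), psp3(5)/oodd3(5), psl3(25), psu4(5), psl4(5), L6(2), S6(3), S4(8), g2(5), O+8(2), 3D4(2), G2(4), S4(7), L3(9), Tits*, U4(3), L4(3), L5(2), psp2(5), G2(3), psl2(125), A10, L2(64), S6(2), J2, psu3(5), psl3(5), A9, U3(4), L3(4), L2(49), Sz(8), L2(27), U4(2), A8, psl2(25), L2(31), U3(3), L3(3), A7, L2(13), L2(8), A6, L2(7), psl2(5) -/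
def L5 : List Rec :=
  (by
  refine (?fq9003 : ((pk61l (fun i1 => (_root_.Cfsg.Agent.N2.Ex.Mu.Sd.Rec.mk (pk61d (nat_lit 63) 
    (nat_lit 0x3c000000000000015000000000000005a00000000000000fc000000000000044400000000000013b000000000000057c0000000000000bd00000000000003a200000000000003cf00000000000013b000000000000032a00000000000002664000000000000e38000000000000396c0000000000002760000000000000f3c00000000000058980000000000016b48000000000000f6180000000000093a8000000000002c4c0000000000000fff000000000000dd7c000000000000ee674000000000081918000000000011da5000000000004c4a0000000000005c8c80000000000063ab00000000000448e00000000000143ebc000000000083e4100000000001dfe2000000000003263400000000000530e800000000015d393ec0000000007df8200000000004453ba800000000258c6c00000000001b05f418000000006dd6223000000002f4a6b2a0000067e90477c9007bac2581510a3000) i1) (pk61d (nat_lit 5) 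
    (nat_lit 0x211062108422084619184108c209846108444088210cc13084823058) i1) (pk61d (nat_lit 7) 
    (nat_lit 0x30610386082030f061c20d0e6078c0e0c18c0efc4031c0c79a244281818408037e34f83060c183) i1) ((fun g1 : Nat → Nat => pk61l (fun i2 => (_root_.Prod.mk (pk61d (nat_lit 5) 
    (nat_lit 0xfb4e3) (pk61d (nat_lit 2) 
    (nat_lit 0x104912132109251213111244d248d2122449244d24934e24e4e4e4) i2)) (pk61d (nat_lit 3) 
    (nat_lit 0x592ca65945965164a6536594596596594cb2d94ca2d94594532ca6532cb6532996cb4532d32d32d32) i2))) (g1 i1) (g1 (Nat.succ i1)) List.nil) fun j => (pk61d (nat_lit 7) 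
    (nat_lit 0x366bd3a3363c37eedbb35eb53a33e6cb931e2c382f9e396cd18af5aad4264680f1b305490f1820200) j)))) (nat_lit 0) (nat_lit 45) List.nil) : List Rec)
    = ?xq9003 → (List Rec)) ?hq9003; (case hq9003 => (set_option maxRecDepth 1000000 in set_option simprocs false in conv => lhs; reduce; dsimp only)); intro _; exact ?xq9003 : List Rec)

/-- oplus4(7), psp3(7)/oodd3(7), psl3(49), psu4(7), psl4(7), g2(7), O+8(2), psp2(7), psl2(343), U3(8), U4(3), psu3(7), psl3(7), A10, S6(2), J2, U3(5), A9, L3(4), psl2(49), U4(2), A8, U3(3), L2(19), A7, L2(8), A6, psl2(7), A5 -/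
def L7 : List Rec := (beta% delta% lq26cc951e13 fun c d f _ _ _ _ _ _ _ =>
 (c ⟨112554991177798901760000, 24, 3, (c (d 3 2)<|c (d 5 4)<|c (d 19 6)<|c (d 43 6)<|f)⟩<|
 c ⟨273457218604953600, 2, 3, (c (d 3 2)<|c (d 5 4)<|c (d 19 6)<|c (d 43 6)<|f)⟩<|c ⟨11072935641600, 12, 3, (c (d 3 2)<|c (d 5 4)<|c (d 19 6)<|c (d 43 6)<|f)⟩<|
 c ⟨1165572172800, 8, 3, (c (d 3 2)<|c (d 5 4)<|c (d 43 6)<|f)⟩<|c ⟨2317591180800, 4, 3, (c (d 3 2)<|c (d 5 4)<|c (d 19 6)<|f)⟩<|
 c ⟨664376138496, 1, 3, (c (d 3 2)<|c (d 19 6)<|c (d 43 6)<|f)⟩<|c ⟨174182400, 6, 16, (c (d 3 2)<|c (d 5 4)<|f)⟩<|c ⟨138297600, 2, 3, (c (d 3 2)<|c (d 5 4)<|f)⟩<|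
 c ⟨20176632, 6, 3, (c (d 3 2)<|c (d 19 6)<|c (d 43 6)<|f)⟩<|c ⟨5515776, 18, 56, (c (d 3 2)<|c (d 19 6)<|f)⟩<|c ⟨3265920, 8, 18, (c (d 3 2)<|c (d 5 4)<|f)⟩<|
 c ⟨5663616, 2, 3, (c (d 3 2)<|c (d 43 6)<|f)⟩<|c ⟨1876896, 6, 3, (c (d 3 2)<|c (d 19 6)<|f)⟩<|c ⟨1814400, 2, 8, (c (d 3 2)<|c (d 5 4)<|f)⟩<|
 c ⟨1451520, 1, 7, (c (d 3 2)<|c (d 5 4)<|f)⟩<|c ⟨604800, 2, 12, (c (d 3 2)<|c (d 5 4)<|f)⟩<|c ⟨126000, 6, 20, (c (d 3 2)<|c (d 5 4)<|f)⟩<|
 c ⟨181440, 2, 7, (c (d 3 2)<|c (d 5 4)<|f)⟩<|c ⟨20160, 12, 15, (c (d 3 2)<|c (d 5 4)<|f)⟩<|c ⟨58800, 4, 3, (c (d 3 2)<|c (d 5 4)<|f)⟩<|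
 c ⟨25920, 2, 4, (c (d 3 2)<|c (d 5 4)<|f)⟩<|c ⟨20160, 2, 7, (c (d 3 2)<|c (d 5 4)<|f)⟩<|c ⟨6048, 2, 6, (c (d 3 2)<|f)⟩<|
 c ⟨3420, 2, 9, (c (d 3 2)<|c (d 5 4)<|c (d 19 6)<|f)⟩<|c ⟨2520, 2, 4, (c (d 3 2)<|c (d 5 4)<|f)⟩<|c ⟨504, 3, 7, (c (d 3 2)<|f)⟩<|c ⟨360, 4, 4, (c (d 3 2)<|c (d 5 4)<|f)⟩<|
 c ⟨168, 2, 3, (c (d 3 2)<|f)⟩<|c ⟨60, 2, 3, (c (d 3 2)<|c (d 5 4)<|f)⟩<|f))

/-- oplus4(8), psp3(8), psl3(64), psu4(8), psl4(8), G2(9), g2(8), S6(3), psp2(8), psl2(512), oplus4(2), td4(2), S4(7), U3(9), L3(9), psu3(8), psl3(8), Tits, U4(3), L4(3), L3(7), S4(5), G2(3), A10, psl2(64), psp3(2), J2*, U3(5), A9, psl3(4), L2(49), sz(8), L2(27), psu4(2), psl4(2), L2(25), U3(3), L3(3), L2(19), A7, L2(13), psl2(8), A6, psl3(2), psl2(4) -/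
def L8 : List Rec :=
  (by
  refine (?fq9004 : ((pk61l (fun i1 => (_root_.Cfsg.Agent.N2.Ex.Mu.Sd.Rec.mk (pk61d (nat_lit 84) 
    (nat_lit 0x3c0000000000000000000a80000000000000000001680000000000000000001f80000000000000000004440000000000000000009d8000000000000000000d5c0000000000000000015f00000000000000000017a0000000000000000001e78000000000000000004ec00000000000000000065400000000000000000026640000000000000000071c000000000000000000e5b0000000000000000004ec000000000000000002c4c000000000000000001ec30000000000000000093a8000000000000000016260000000000000000003ffc00000000000000001baf8000000000000000040c8c00000000000000004769400000000000000001ca3a00000000000000005c8c8000000000000000031d580000000000000001123800000000000000000fb8200000000000000000542a0000000000000000287d780000000000000002899f200000000000000083e410000000000000000c98d00000000000000000a61d000000000000000007fffe0000000000000003efc10000000000000001114eea0000000000003efff040000000000000148ca6710b000000000001f6e48fc00000000000001f8dc7040000000000000554feaac0000000007df80081f8000000fbe04203dfc1000000000)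 i1) (pk61d (nat_lit 6) 
    (nat_lit 0x20840c20820821020860c43021820460820861080864841020c62460831061a40d2) i1) (pk61d (nat_lit 7) 
    (nat_lit 0x100060824406180000d0060007281800010386303448c00014241800000001a024000000000) i1) ((fun g1 : Nat → Nat => pk61l (fun i2 => (_root_.Prod.mk (pk61d (nat_lit 7) 
    (nat_lit 0x24931a1c283) (pk61d (nat_lit 3) 
    (nat_lit 0x10810834111086106422086834510884422110886884434191106422191508834452110d0445883443445885688ad111a22c688b1a22c688) i2)) (pk61d (nat_lit 3) 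
    (nat_lit 0x45944944945a28929168a28945145a25128945a28a25144a45929128a4592c94516894532d16c94514516c968a2d145a28b68a2da28b68a2) i2))) (g1 i1) (g1 (Nat.succ i1)) List.nil) fun j => (pk61d (nat_lit 8) 
    (nat_lit 0x9593918f8d8a878482807d7a7875726f6c696663605c595653504d4a4744413d3a3734312d2925211c17120c0600) j)))) (nat_lit 0) (nat_lit 45) List.nil) : List Rec)
    = ?xq9004 → (List Rec)) ?hq9004; (case hq9004 => (set_option maxRecDepth 1000000 in set_option simprocs false in conv => lhs; reduce; dsimp only)); intro _; exact ?xq9004 : List Rec)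

/-- oplus4(9), psp3(9)/oodd3(9), oodd4(3), psl3(81), psu4(9), psl4(9), oplus4(3), g2(9), ominus4(3), psp3(3)/oodd3(3), psp2(9), S4(8), psl2(729), O+8(2), 3D4(2), G2(4), S4(7), psu3(9), psl3(9), L3(8), Tits, psu4(3), psl4(3), S4(5), g2(3), A10, psl2(81), L2(64), S6(2), J2, U3(5), A9, U3(4), L3(4), L2(49), Sz(8), L2(41), psl2(27), psp2(3), A8, L2(25), psu3(3), psl3(3), A7, L2(13), L2(8), psl2(9), L2(7), A5 -/
def L9 : List Rec :=
  (by
  refine (?fq9005 : ((pk61l (fun i1 => (_root_.Cfsg.Agent.N2.Ex.Mu.Sd.Rec.mk (pk61d (nat_lit 87) 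
    (nat_lit 0x3c000000000000000000015000000000000000000005a00000000000000000000fc000000000000000000044400000000000000000013b000000000000000000057c0000000000000000000bd00000000000000000001e780000000000000000009d8000000000000000000195000000000000000000013320000000000000000008688000000000000000000e38000000000000000000396c0000000000000000002760000000000000000000f3c00000000000000000058980000000000000000007b0c0000000000000000049d400000000000000000162600000000000000000007ff8000000000000000001037400000000000000000dd7c0000000000000000040c8c000000000000000008ed280000000000000000172320000000000000000018eac000000000000000011238000000000000000001f70400000000000000000a1f5e0000000000000000144cf9000000000000000083e4100000000000000001dfe2000000000000000003263400000000000000000530e800000000000000000b8bc738000000000000007df82000000000000000019a768400000000000000088a775000000000000093bb07bbc00000000000029194ce216000000000000120413acc00000000000017153935560000000000005c95d4953a00000000000d2a1aa06b0c0000000003a6db8cf01b00000000176e0fa3c2853b8006adb5a9ff204360e930000)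 i1) (pk61d (nat_lit 6) 
    (nat_lit 0x20840c20820840821820c430408608118808208420218410208318c184084118408202130) i1) (pk61d (nat_lit 6) 
    (nat_lit 0x30c31c61030cc1c30d41d83cc1d4307fc32033030d8fc30d8310403fc30c30c30c30c30c3) i1) ((fun g1 : Nat → Nat => pk61l (fun i2 => (_root_.Prod.mk (pk61d (nat_lit 7) 
    (nat_lit 0x495234385) (pk61d (nat_lit 3) 
    (nat_lit 0x828908a0404590882084082082110c108a08108428880844224444221844344444221a22311a21a223444688) i2)) (pk61d (nat_lit 3) 
    (nat_lit 0xb2db65b6594da65b2cb2cb2cb2cb65165b65a6996db2cb2d96d96d96ca2da4da6d96d26cb45a6ca6d34d969b2) i2))) (g1 i1) (g1 (Nat.succ i1)) List.nil) fun j => (pk61d (nat_lit 7) 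
    (nat_lit 0x3bf6ebd39f1dfbb6ebd3a3363c17ae5ab15aa529f365c98f161c17ef1d386acd8ad54a12a13a68b131c28280) j)))) (nat_lit 0) (nat_lit 49) List.nil) : List Rec)
    = ?xq9005 → (List Rec)) ?hq9005; (case hq9005 => (set_option maxRecDepth 1000000 in set_option simprocs false in conv => lhs; reduce; dsimp only)); intro _; exact ?xq9005 : List Rec)

/-- oplus4(11), psp3(11)/oodd3(11), psl3(121), psu4(11), psl4(11), HN, g2(11), U5(3), U6(2), psp2(11), psl2(1331), McL, O+8(2), A12, psu3(11), psl3(11), S4(7), U3(8), HS, A11, U5(2), U4(3), L3(7), A10, psl2(121), S6(2), J2, M22, U3(5), A9, J1*, L3(4), L2(49), M12, U4(2), L2(37), A8, M11, U3(3), L2(19), A7, L2(8), A6, psl2(11), L2(7), A5 -/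
def L11 : List Rec :=
  (by
  refine (?fq9006 : ((pk61l (fun i1 => (_root_.Cfsg.Agent.N2.Ex.Mu.Sd.Rec.mk (pk61d (nat_lit 95) 
    (nat_lit 0x1e0000000000000000000000a80000000000000000000005280000000000000000000005a0000000000000000000000fc0000000000000000000009d8000000000000000000001ab8000000000000000000005e8000000000000000000000f78000000000000000000004ec000000000000000000000c5b80000000000000000000195000000000000000000000b9a000000000000000000000e5b0000000000000000000009d800000000000000000000ab7200000000000000000001626000000000000000000001ec300000000000000000000d890000000000000000000024ea00000000000000000000b13000000000000000000000d83d8000000000000000000375f00000000000000000000728e800000000000000000018eac0000000000000000000d0d40000000000000000000261150000000000000000000a930800000000000000000002a15000000000000000000083e410000000000000000001952c6a0000000000000000010e8598000000000000000007233f0000000000000000000a61d00000000000000000006b10b10000000000000000011916cff00000000000000017f4701a00000000000000002242c800000000000000000783ab6f0000000000000055a1a816b0300000000000007c28fb42e0000000000000075a5975d70e800000000000075d2e181621000000000000d9a58b39aa7a00000006374d538686642db00738365a61f909fd788773000)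 i1) (pk61d (nat_lit 5) 
    (nat_lit 0x4211062108421084460846108241190210a4211846118461044443058) i1) (pk61d (nat_lit 6) 
    (nat_lit 0xc30c41c42462074842183c61d43cc1c323048824fe180c32905030d0d835030c30c3) i1) ((fun g1 : Nat → Nat => pk61l (fun i2 => (_root_.Prod.mk (pk61d (nat_lit 6) 
    (nat_lit 0xf654c7143) (pk61d (nat_lit 3) 
    (nat_lit 0x2102084110c84084446082110886884422110884452110d04410884434110d110844221111a229088a888d10d115a22c22c688b1a22c688) i2)) (pk61d (nat_lit 3) 
    (nat_lit 0x4b2492cb2592c92c96c924b2592d92c964b2592c944b25b2c92592c96cb25b2592c964b25b64a2592992db25b25364a64a6d929b64a6d92) i2))) (g1 i1) (g1 (Nat.succ i1)) List.nil) fun j => (pk61d (nat_lit 8) 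
    (nat_lit 0x9492908e8c8a878482807d7a787673706c696663605d5a5754514f4c4946433f3c3936332e2b28241f1b16120c0600) j)))) (nat_lit 0) (nat_lit 46) List.nil) : List Rec)
    = ?xq9006 → (List Rec)) ?hq9006; (case hq9006 => (set_option maxRecDepth 1000000 in set_option simprocs false in conv => lhs; reduce; dsimp only)); intro _; exact ?xq9006 : List Rec)

/-- oplus4(13), psp3(13)/oodd3(13), psl3(169), psu4(13), psl4(13), g2(13), S6(4), U5(3), psp2(13), S8(2), psl2(2197), S6(3), He, S4(8), U4(4), L4(4), psu3(13), psl3(13), O+8(2), 3D4(2), G2(4), O-8(2), S4(7), L3(9), Tits, U4(3), L4(3), psl2(169), S4(5), G2(3), S4(4), A10, L2(64), S6(2), J2, U3(5), A9, U3(4), L3(4), L2(49), Sz(8), L2(27), U4(2), A8, L2(25), L2(16), U3(3), L3(3), A7, L2(17), psl2(13), L2(8), A6, L2(7), A5 -/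
def L13 : List Rec :=
  (by
  refine (?fq9007 : ((pk61l (fun i1 => (_root_.Cfsg.Agent.N2.Ex.Mu.Sd.Rec.mk (pk61d (nat_lit 102) 
    (nat_lit 0x3c000000000000000000000002a00000000000000000000000168000000000000000000000007e000000000000000000000004440000000000000000000000264000000000000000000000009d8000000000000000000000057c000000000000000000000017a000000000000000000000003fc00000000000000000000001e7800000000000000000000013b0000000000000000000000065400000000000000000000000999000000000000000000000071c0000000000000000000000396c00000000000000000000004ec00000000000000000000003cf00000000000000000000002c4c00000000000000000000007b0c00000000000000000000093a8000000000000000000000589800000000000000000000003ffc0000000000000000000006ebe0000000000000000000000ef10000000000000000000001032300000000000000000000047694000000000000000000000934c2000000000000000000005c8c8000000000000000000000c7560000000000000000000011238000000000000000000000a1f5e0000000000000000000083e41000000000000000000002f10c0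00000000000000000000eff100000000000000000000032634000000000000000000000a61d000000000000000000000406a5f8000000000000000000305b0b30000000000000000000eb53c000000000000000000003cb31000000000000000000000fbf0400000000000000000000f03ad400000000000000000004453ba800000000000000000013c09e48c00000000000000002c1fb400000000000000000000ff40caf400000000000000000f0756de000000000000000003bc043c0000000000000000379f54b994cb00000000000002d2bc9b26e3c8000000000000169b28e766f6e000000000000313fbdaefbbe680000000680359b0cee7cb8f78030a03187a70a2275a414443000) i1) (pk61d (nat_lit 5) 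
    (nat_lit 0x8441884210884108c32308230826110422110220842198c2210c2118221082823058) i1) (pk61d (nat_lit 7) 
    (nat_lit 0xc1840e0c404101878c0e10687303c60728303bf103c70c0668918a06080c20401837ec1faa1a0c7836cfc183060c183) i1) ((fun g1 : Nat → Nat => pk61l (fun i2 => (_root_.Prod.mk (pk61d (nat_lit 8) 
    (nat_lit 0x9d3d11070503) (pk61d (nat_lit 3) 
    (nat_lit 0x10810820c22020c821104208a2110422110884422110c84086882110422110d1088411110a834432110d1088b10688688888688b108d115a22c688b1a22c688) i2)) (pk61d (nat_lit 3) 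
    (nat_lit 0x44944925128925228945124a28945128944a25128945224a28a28945128945144a2494592c945148945144a2d928a28a2ca28a2d92d145a28b68a2da28b68a2) i2))) (g1 i1) (g1 (Nat.succ i1)) List.nil) fun j => (pk61d (nat_lit 8) 
    (nat_lit 0xa9a7a5a3a19f9d9a999794928f8d8b898683817e7b7875726f6c6a6864625f5d5a5753504e4b4845413e3b3734302c2824201c17120c0600) j)))) (nat_lit 0) (nat_lit 55) List.nil) : List Rec)
    = ?xq9007 → (List Rec)) ?hq9007; (case hq9007 => (set_option maxRecDepth 1000000 in set_option simprocs false in conv => lhs; reduce; dsimp only)); intro _; exact ?xq9007 : List Rec)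

/-- oplus4(16), psp3(16), psl3(256), psu4(16), psl4(16), oplus4(4), g2(16), ominus4(4), psp2(16), psp3(4), psl2(4096), psu3(16), psl3(16), S6(3), He, psu4(4), psl4(4), oplus4(2), g2(4), ominus4(2), S4(7), L3(9), psl2(256), Tits, U4(3), L4(3), S4(5), G2(3), psp2(4), A10, psl2(64), psp3(2), J2*, U3(5), A9, psu3(4), psl3(4), L2(49), L2(27), psu4(2), psl4(2), L2(25), psl2(16), U3(3), L3(3), A7, L2(17), L2(13), psl2(8), A6, psl3(2), psl2(4) -/
def L16 : List Rec :=
  (by
  refine (?fq9008 : ((pk61l (fun i1 => (_root_.Cfsg.Agent.N2.Ex.Mu.Sd.Rec.mk (pk61d (nat_lit 112) 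
    (nat_lit 0x3c00000000000000000000000000a8000000000000000000000000016800000000000000000000000001f80000000000000000000000000444000000000000000000000000099000000000000000000000000009d800000000000000000000000015f000000000000000000000000017a00000000000000000000000000ff00000000000000000000000001e780000000000000000000000004ec000000000000000000000000065400000000000000000000000002664000000000000000000000000e5b00000000000000000000000004ec0000000000000000000000000f3c0000000000000000000000002c4c0000000000000000000000001ec300000000000000000000000093a800000000000000000000000162600000000000000000000000003ffc000000000000000000000001baf8000000000000000000000000ef100000000000000000000000040c8c0000000000000000000000047694000000000000000000000005c8c80000000000000000000000031d58000000000000000000000011238000000000000000000000000ffff00000000000000000000000287d78000000000000000000000083e4100000000000000000000000bc43000000000000000000000000eff1000000000000000000000000a61d000000000000000000000003ad4f000000000000000000000003cb3100000000000000000000000f03ad40000000000000000000001114eea000000000000000000000054fab00000000000000000000000ff0ff0000000000000000000000ffffff000000000000000000003bc043c0000000000000000000000feff01000000000000000000eff0100f00000000000000000000feffff0100000000000000000000ee120df10000000000000000000feef110ff0000000000000000000ff0ef0f010000000000000000005554ffaaab0000000000000feff000100ff000000000fefe010200fdff01000000000000)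 i1) (pk61d (nat_lit 6) 
    (nat_lit 0x8210308208208410208610c10218204608408210808810208218410209820c088104308230118) i1) (pk61d (nat_lit 7) 
    (nat_lit 0x2000c202080c006000034c00001ca0600004001c30d123002818000000000a8680000000000000000000000) i1) ((fun g1 : Nat → Nat => pk61l (fun i2 => (_root_.Prod.mk (pk61d (nat_lit 9) 
    (nat_lit 0x405e2110681c0a03) (pk61d (nat_lit 3) 
    (nat_lit 0x420420d08110c21086422086822110c844221108868844421a0c86422191a10d1088888688444444644443444688b08b1a2234468468d1163444688d1a235846b1a2358d11ac688) i2)) (pk61d (nat_lit 3) 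
    (nat_lit 0x964965b24b2596492c968a2d964b2592c964b25a2d92c944b6592c964b25125b25929a2d92d14c94c92c96c92d92c92cb64a6c944949b2596c94d928b64a6494cb64a65b2532d92) i2))) (g1 i1) (g1 (Nat.succ i1)) List.nil) fun j => (pk61d (nat_lit 8) 
    (nat_lit 0xbfbdbbb9b7b4b2afadaba8a5a2a09d9a9794918e8b8884817e7b7875726f6b6764605c5955514d4944403a35312b25201a150e0700) j)))) (nat_lit 0) (nat_lit 52) List.nil) : List Rec)
    = ?xq9008 → (List Rec)) ?hq9008; (case hq9008 => (set_option maxRecDepth 1000000 in set_option simprocs false in conv => lhs; reduce; dsimp only)); intro _; exact ?xq9008 : List Rec)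

/-- oplus4(17), psp3(17)/oodd3(17), psl3(289), psu4(17), psl4(17), g2(17), S6(4), psp2(17), psl2(4913), Ru, S8(2), psu3(17), psl3(17), S6(3), He, S4(8), U4(4), L4(4), O+8(2), 3D4(2), G2(4), O-8(2), S4(7), L3(9), psl2(289), Tits, U4(3), L4(3), S4(5), G2(3), S4(4), A10, L2(64), S6(2), J2, U3(5), A9, U3(4), L3(4), L2(49), Sz(8), L2(27), U4(2), A8, L2(25), L2(29), L2(16), U3(3), L3(3), A7, psl2(17), L2(13), L2(8), A6, L2(7), A5 -/
def L17 : List Rec :=
  (by
  refine (?fq9009 : ((pk61l (fun i1 => (_root_.Cfsg.Agent.N2.Ex.Mu.Sd.Rec.mk (pk61d (nat_lit 113) 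
    (nat_lit 0x1e000000000000000000000000002a000000000000000000000000002d000000000000000000000000001f800000000000000000000000002220000000000000000000000000264000000000000000000000000013b000000000000000000000000015f00000000000000000000000000bd000000000000000000000000003fc00000000000000000000000005f280000000000000000000000001e780000000000000000000000002760000000000000000000000000195000000000000000000000000004cc800000000000000000000000071c000000000000000000000000072d800000000000000000000000013b00000000000000000000000001e780000000000000000000000002c4c0000000000000000000000000f6180000000000000000000000024ea0000000000000000000000002c4c00000000000000000000000003ffc000000000000000000000000dd7c0000000000000000000000003bc4000000000000000000000000819180000000000000000000000047694000000000000000000000002e464000000000000000000000000c7560000000000000000000000022470000000000000000000000000b82720000000000000000000000143ebc000000000000000000000020f904000000000000000000000017886000000000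000000000000000eff100000000000000000000000064c6800000000000000000000000298740000000000000000000000075a9e000000000000000000000003cb31000000000000000000000001f7e0800000000000000000000003c0eb500000000000000000000002229dd400000000000000000000019e43b6000000000000000000000045127b6000000000000000000002c1fb4000000000000000000000043f3c080000000000000000000000dce31a8b000000000000000000074f0584200000000000000000000ef010f0000000000000000004a841af9c93980000000000000009e4ffd4be1e600000000000000009e607db6563640000000000000038466f09f94cc200000000038f3fc416a8f18384b00015c3c959409bd357bd0d4ee300000) i1) (pk61d (nat_lit 5) 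
    (nat_lit 0x108831084211044108c323082308261104222044208421988430842304461082823058) i1) (pk61d (nat_lit 7) 
    (nat_lit 0x60c2070c0c2080c3c70c0e10687303c60728303bf103c70c3448c03a06080c2041fb07ea8683063c70306fc183060c183) i1) ((fun g1 : Nat → Nat => pk61l (fun i2 => (_root_.Prod.mk (pk61d (nat_lit 9) 
    (nat_lit 0x2661d0681c0a03) (pk61d (nat_lit 3) 
    (nat_lit 0x420420d008861022221908821a0d14422190884422110d108821a0c864221910868844221a21a08844321a2110d114341111a22b4210d115a16111a22c688b1a22c688) i2)) (pk61d (nat_lit 3) 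
    (nat_lit 0x1165165b25a2cb28a68b45a28b65b4d168b45a2d168b45b45a28b65a2d168b4522da2d168b68b65a2d168b68b45b4596cb45368b6ca45b45b65a45368b4da2d368b4da2) i2))) (g1 i1) (g1 (Nat.succ i1)) List.nil) fun j => (pk61d (nat_lit 8) 
    (nat_lit 0xb3b1afadaba8a7a4a2a09e9a9794928f8c898683807d7a7773706e6b6865625f5c5855524e4b4845423e3b3735322f2a26231f1b17120c0600) j)))) (nat_lit 0) (nat_lit 56) List.nil) : List Rec)
    = ?xq9009 → (List Rec)) ?hq9009; (case hq9009 => (set_option maxRecDepth 1000000 in set_option simprocs false in conv => lhs; reduce; dsimp only)); intro _; exact ?xq9009 : List Rec)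

/-- oplus4(19), psp3(19)/oodd3(19), psl3(361), psu4(19), psl4(19), g2(19), psp2(19), psl2(6859), psu3(19), psl3(19), O+8(2), S4(7), U3(8), psl2(361), U4(3), L3(7), A10, L2(127), S6(2), J2, U3(5), A9, L3(4), L2(49), U4(2), A8, U3(3), psl2(19), A7, L2(8), A6, L2(7), A5 -/
def L19 : List Rec :=
  (by
  refine (?fq9010 : ((pk61l (fun i1 => (_root_.Cfsg.Agent.N2.Ex.Mu.Sd.Rec.mk (pk61d (nat_lit 117) 
    (nat_lit 0x3c000000000000000000000000000540000000000000000000000000005a0000000000000000000000000003f0000000000000000000000000009d8000000000000000000000000006ae000000000000000000000000005e8000000000000000000000000009d8000000000000000000000000006540000000000000000000000000072d8000000000000000000000000013b00000000000000000000000000589800000000000000000000000001ec3000000000000000000000000049d40000000000000000000000000589800000000000000000000000001f4100000000000000000000000001baf80000000000000000000000000e51d0000000000000000000000000c7560000000000000000000000002cddb9000000000000000000000000542a00000000000000000000000041f2080000000000000000000000029874000000000000000000000002a0e60b20000000000000000000003f1a46ba0000000000000000000012c86bda2a0000000000000000000b1f11dc8d000000000000000161d8eaae8752d800000000000000690845498af7848000000000000001a44072c68be3bc000000000000014d9327e7323cc3a0000000024d23a2e8527142a1b1e401ea71cf2b02e98053443ee21063000)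 i1) (pk61d (nat_lit 5) 
    (nat_lit 0x21106210842230461044232092118c23082443058) i1) (pk61d (nat_lit 6) 
    (nat_lit 0x30c41c40c61c460f1d4307fc8c120f86100c30c30c30c30c3) i1) ((fun g1 : Nat → Nat => pk61l (fun i2 => (_root_.Prod.mk (pk61d (nat_lit 8) 
    (nat_lit 0xb57f070503) (pk61d (nat_lit 3) 
    (nat_lit 0x21021044108220844221108844221a08841110841108864221a2210d111911111a223444688) i2)) (pk61d (nat_lit 3) 
    (nat_lit 0x4b24b2c92596492c964b2592c964b6592cb2512cb2592c964b64a25b25325325364a6c94d92) i2))) (g1 i1) (g1 (Nat.succ i1)) List.nil) fun j => (pk61d (nat_lit 7) 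
    (nat_lit 0x3262c17ae59af569509b2a3c482f9db86ccd82e56a12a23c6cb931e28280) j)))) (nat_lit 0) (nat_lit 33) List.nil) : List Rec)
    = ?xq9010 → (List Rec)) ?hq9010; (case hq9010 => (set_option maxRecDepth 1000000 in set_option simprocs false in conv => lhs; reduce; dsimp only)); intro _; exact ?xq9010 : List Rec)

/-- oplus4(23), psp3(23)/oodd3(23), psl3(529), psu4(23), psl4(23), g2(23), Co1, Fi22, Co2, psp2(23), A16, psl2(12167), A15, Co3, Suz, L5(3), psu3(23), psl3(23), A14, U6(2), S6(3), S4(8), A13, McL, O+8(2), 3D4(2), G2(4), M24, A12, psl2(529), S4(7), L3(9), HS, A11, Tits, U5(2), U4(3), L4(3), M23, S4(5), G2(3), A10, L2(64), S6(2), J2, M22, U3(5), L2(79), A9, U3(4), L3(4), L2(49), M12, L2(53), Sz(8), L2(27), U4(2), A8, L2(25), M11, psl2(23), U3(3), L3(3), A7, L2(13), L2(8), A6, L2(11), L2(7), A5 -/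
def L23 : List Rec :=
  (by
  refine (?fq9011 : ((pk61l (fun i1 => (_root_.Cfsg.Agent.N2.Ex.Mu.Sd.Rec.mk (pk61d (nat_lit 125) (Nat.add 
    (nat_lit 0x4ec000000000000000000000000000057c00000000000000000000000000002f4000000000000000000000000000017b80000000000000000000000000000f78000000000000000000000000000079e00000000000000000000000000009d80000000000000000000000000000654000000000000000000000000000013320000000000000000000000000001c7000000000000000000000000000024558000000000000000000000000001734000000000000000000000000000072d800000000000000000000000000013b00000000000000000000000000001e780000000000000000000000000002c4c0000000000000000000000000001e1680000000000000000000000000007b0c000000000000000000000000000d89000000000000000000000000000093a8000000000000000000000000000b1300000000000000000000000000000fff000000000000000000000000000375f00000000000000000000000000040c8c0000000000000000000000000023b4a0000000000000000000000000026e9e000000000000000000000000000b9190000000000000000000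0000000031d5800000000000000000000000000686a000000000000000000000000000448e00000000000000000000000000026115000000000000000000000000002a4c200000000000000000000000000143ebc000000000000000000000000020f904000000000000000000000000008d2d720000000000000000000000000e467e0000000000000000000000000074bda000000000000000000000000003bfc4000000000000000000000000001931a000000000000000000000000000a61d000000000000000000000000001ac42c40000000000000000000000002e6519800000000000000000000000007df8200000000000000000000000001114eea000000000000000000000000112164000000000000000000000000028987650000000000000000000000002464fbdd40000000000000000000000061115fe800000000000000000000001bae7e21000000000000000000000001a18de58000000000000000000000000e6dbfda800000000000000000000000983bbbac0000000000000000000000068d744161400000000000000000000260eeeeb00000000000000000000000259b17fad20000000000000000000002679ff9c000000000000000000000001d5bfa2300000000000000000000e6cd8fe825800000000000000000001412857d1cfb10600000000000000007367f6e9173975600000000000000001cdb349038038d20000000000000001bb43ae8aeaa854480000000007f4c4abfa916092762eba00193a8ce0ae35c71f729874e6a4c30000)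 (Nat.shiftLeft 
    (nat_lit 0x7800000000000000000000000000000a8000000000000000000000000000014a000000000000000000000000000005a000000000000000000000000000003f00000000000000000000000000000444) (nat_lit 8000))) i1) (pk61d (nat_lit 5) 
    (nat_lit 0x4211062108421104230c4223082118420984210888108422088210866108c23084610842308421082443058) i1) (pk61d (nat_lit 7) 
    (nat_lit 0x1830a10386082030310303841a1cd08303c6074e5078c0efc40e183cd12106048fa06018a1e30810282df8d2030183a090a0d06381943850183060c183) i1) ((fun g1 : Nat → Nat => pk61l (fun i2 => (_root_.Prod.mk (pk61d (nat_lit 7) 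
    (nat_lit 0x13da8d161c283) (pk61d (nat_lit 3) 
    (nat_lit 0x108320842208881061910844111088d8190884442111a10886884422222111108434442110c884344344444222b21a21a2222220886888d11111110d111a23342311911a21a2234468d08d11590d111a2234468d0d5a22c646b1a2358d11ac688) i2)) (pk61d (nat_lit 3) 
    (nat_lit 0x45928a2cb65a2cb24945a2d145b2da4c945a2d168b45b45a25a2d168b68b45b2d12d168b44a2d12d12d16d168a28968968b68b65a25a2cb45b45b44b45968b2cb25945968968b2d16cb2cb45144b45968b2d16cb2d168a65169968b4cb45a65a2) i2))) (g1 i1) (g1 (Nat.succ i1)) List.nil) fun j => (pk61d (nat_lit 9) 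
    (nat_lit 0x405fefd7d3e1ecf3783b9d8ea73b91c2df6e365acd36833594c761b0178b95b2c95eac54a95449f4e2652a9146a290c823f1e8ee74381acce632f968ac53279288c411e0dc662f15094401a0a8380e00) j)))) (nat_lit 0) (nat_lit 70) List.nil) : List Rec)
    = ?xq9011 → (List Rec)) ?hq9011; (case hq9011 => (set_option maxRecDepth 1000000 in set_option simprocs false in conv => lhs; reduce; dsimp only)); intro _; exact ?xq9011 : List Rec)

/-- oplus4(25), psp3(25)/oodd3(25), oodd4(5), psl3(625), psu4(25), psl4(25), oplus4(5), g2(25), ominus4(5), psp3(5)/oodd3(5), psp2(25), psl2(15625), psu3(25), psl3(25), psu4(5), psl4(5), L6(2), S6(3), S4(8), g2(5), O+8(2), psl2(625), 3D4(2), G2(4), S4(7), L3(9), Tits*, U4(3), L4(3), L5(2), psp2(5), G2(3), psl2(125), A10, L2(64), S6(2), J2, psu3(5), psl3(5), A9, U3(4), L3(4), L2(49), Sz(8), L2(27), U4(2), A8, psl2(25), L2(31), U3(3), L3(3), A7, L2(13), L2(8), A6, L2(7), psl2(5) -/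
def L25 : List Rec :=
  (by
  refine (?fq9012 : ((pk61l (fun i1 => (_root_.Cfsg.Agent.N2.Ex.Mu.Sd.Rec.mk (pk61d (nat_lit 129) 
    (nat_lit 0x3c000000000000000000000000000000540000000000000000000000000000005a0000000000000000000000000000003f000000000000000000000000000000444000000000000000000000000000004ec0000000000000000000000000000057c000000000000000000000000000002f4000000000000000000000000000003a2000000000000000000000000000000f3c000000000000000000000000000013b000000000000000000000000000000ca8000000000000000000000000000002664000000000000000000000000000038e00000000000000000000000000000396c000000000000000000000000000009d800000000000000000000000000000f3c00000000000000000000000000001626000000000000000000000000000016b4800000000000000000000000000003d86000000000000000000000000000093a80000000000000000000000000000b13000000000000000000000000000000fff0000000000000000000000000000375f00000000000000000000000000000ee674000000000000000000000000002064600000000000000000000000000011da5000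0000000000000000000000001312800000000000000000000000000005c8c800000000000000000000000000018eac000000000000000000000000000448e000000000000000000000000000050faf00000000000000000000000000083e4100000000000000000000000000077f88000000000000000000000000000326340000000000000000000000000000e8d47e00000000000000000000000000a61d000000000000000000000000000ae9c9f600000000000000000000000000fbf04000000000000000000000000002229dd400000000000000000000000004b18d8000000000000000000000000000d82fa0c0000000000000000000000000dbac44600000000000000000000000017a535950000000000000000000000002378f9eb600000000000000000000000de0b6b2b34000000000000000000000ad31c0d22400000000000000000000019fa411df24000000000000000000f8233e1f5c08f4000000000000000001021491d24d8f098000000000000000001eeb096054428c000000000000000001933944f2f58e8c80000000000000000193467ba6b396dba0000000000000000d25cc4316b37ec690000000000000171298e7fef9061e1b000000000002dd81b02717ad035c569ca0010497dd85e97cfc0d81f55f756ee30000) i1) (pk61d (nat_lit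 6) 
    (nat_lit 0x20840c20820821020860c4304082182046086082084202102083206046082204304304084098408602130) i1) (pk61d (nat_lit 7) 
    (nat_lit 0x30610386082030f061c20d0e6078c0e0c18c0efc4031c0c79a2442818184019006fc69f060c183060c183060c183060c183) i1) ((fun g1 : Nat → Nat => pk61l (fun i2 => (_root_.Prod.mk (pk61d (nat_lit 10) 
    (nat_lit 0x9653907c0d01c03) (pk61d (nat_lit 3) 
    (nat_lit 0x402110420430810110890420430410422086422106420420882110888810c84422190d044344542b44441a2234456886888d1162163444688b1a22c688) i2)) (pk61d (nat_lit 3) 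
    (nat_lit 0x592c965925964964964b6592596596592cb2d92ca2d925924b2c964b28965b2592cb65a29965964b65944b4ca6996cb2d329965a25a6594d32d32cb4cb2) i2))) (g1 i1) (g1 (Nat.succ i1)) List.nil) fun j => (pk61d (nat_lit 8) 
    (nat_lit 0xa4a3a1a09e9b99979593918f8e8b89878583817f7d7b797674716e6c69676563605e5b585553504d4a4744413d3a35322e2924201b17110c0600) j)))) (nat_lit 0) (nat_lit 57) List.nil) : List Rec)
    = ?xq9012 → (List Rec)) ?hq9012; (case hq9012 => (set_option maxRecDepth 1000000 in set_option simprocs false in conv => lhs; reduce; dsimp only)); intro _; exact ?xq9012 : List Rec)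

/-- oplus4(27), psp3(27)/oodd3(27), psl3(729), psu4(27), psl4(27), g2(27), psp2(27), oplus4(3), psl2(19683), td4(3), G2(8), psu3(27), psl3(27), ree(27), psp3(3)/oodd3(3), S4(8), psl2(729), O+8(2), 3D4(2), G2(4), S4(7), psl3(9), U3(8), L3(8), Tits, psu4(3), psl4(3), L3(7), S4(5), g2(3), A10, L2(64), S6(2), J2, U3(5), L2(73), A9, U3(4), L3(4), L2(49), Sz(8), psl2(27), psp2(3), L2(37), A8, L2(25), psu3(3), psl3(3), L2(19), A7, L2(13), L2(8), psl2(9), L2(7), A5 -/
def L27 : List Rec :=
  (by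
  refine (?fq9013 : ((pk61l (fun i1 => (_root_.Cfsg.Agent.N2.Ex.Mu.Sd.Rec.mk (pk61d (nat_lit 132) 
    (nat_lit 0x3c0000000000000000000000000000000a80000000000000000000000000000001680000000000000000000000000000001f80000000000000000000000000000004440000000000000000000000000000009d8000000000000000000000000000000d5c0000000000000000000000000000015f00000000000000000000000000000017a0000000000000000000000000000001e78000000000000000000000000000004ec00000000000000000000000000000062dc0000000000000000000000000000065400000000000000000000000000000026640000000000000000000000000000071c000000000000000000000000000000e5b0000000000000000000000000000004ec000000000000000000000000000000f3c000000000000000000000000000002c4c000000000000000000000000000002f7a800000000000000000000000000001ec30000000000000000000000000000093a8000000000000000000000000000016260000000000000000000000000000003ffc00000000000000000000000000001baf8000000000000000000000000000040c8c00000000000000000000000000004769400000000000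000000000000000001ca3a00000000000000000000000000005c8c8000000000000000000000000000031d580000000000000000000000000001123800000000000000000000000000000fb8200000000000000000000000000000542a0000000000000000000000000000287d7800000000000000000000000000083e410000000000000000000000000000eff100000000000000000000000000000c98d00000000000000000000000000000a61d00000000000000000000000000000b8bc73800000000000000000000000003efc10000000000000000000000000001114eea000000000000000000000000002586c90780000000000000000000000041aa2a82100000000000000000000000041abdfcd2000000000000000000000003efff04000000000000000000000000012b3310fd4400000000000000000000000377bc83996c000000000000000000000048104eb30000000000000000000000005d7ff54f254000000000000000005ec69185b3b883ac00000000000000004ff676ae648369fe8000000000000000027fc459893d0161280000000000000010e423af7427c2778780000000007369933cdfa77779fde6abe008c8aeb89a5b65959deb0e68a96a383000) i1) (pk61d (nat_lit 7) 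
    (nat_lit 0x8104060810204082020408303083020204181010c081020c104020c48202040c30c0c081860c0c192301830c3030348) i1) (pk61d (nat_lit 6) 
    (nat_lit 0x30c31c61090c33074830c760f307914307fc80ccc030d8ff80d8310403fc30c30f80c30c30c30c30c3) i1) ((fun g1 : Nat → Nat => pk61l (fun i2 => (_root_.Prod.mk (pk61d (nat_lit 10) 
    (nat_lit 0x2f51242504c0d01c05) (pk61d (nat_lit 3) 
    (nat_lit 0x20a24308a044611441042045841042208450650210a59441088448a8844222347231a359a8e8d14454468d1d51163446b1a2358d11ac688) i2)) (pk61d (nat_lit 3) 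
    (nat_lit 0x45124a69b28a6d124a28a28a4ca28a2514d94cb4d148b2da28944948944a6d364b25b25329b6d92da44a6d92d129364a69b2534d929a6c94) i2))) (g1 i1) (g1 (Nat.succ i1)) List.nil) fun j => (pk61d (nat_lit 8) 
    (nat_lit 0x95949392918f8d8b8a8987858382807d7b79777573716f6d6a68666462605e5c5a585553504e4c4845423e3b3734312c2925201b150e0700) j)))) (nat_lit 0) (nat_lit 55) List.nil) : List Rec)
    = ?xq9013 → (List Rec)) ?hq9013; (case hq9013 => (set_option maxRecDepth 1000000 in set_option simprocs false in conv => lhs; reduce; dsimp only)); intro _; exact ?xq9013 : List Rec)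

/-- oplus4(29), psp3(29)/oodd3(29), psl3(841), psu4(29), psl4(29), g2(29), psp2(29), psl2(24389), psu3(29), psl3(29), Ru*, S6(3), S4(8), psl2(841), O+8(2), 3D4(2), G2(4), S4(7), L3(9), Tits, U4(3), L4(3), S4(5), G2(3), A10, L2(64), S6(2), J2, U3(5), A9, U3(4), L3(4), L2(49), Sz(8), L2(27), U4(2), A8, L2(25), psl2(29), U3(3), L3(3), A7, L2(13), L2(8), A6, L2(7), A5 -/
def L29 : List Rec :=
  (by
  refine (?fq9014 : ((pk61l (fun i1 => (_root_.Cfsg.Agent.N2.Ex.Mu.Sd.Rec.mk (pk61d (nat_lit 135) 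
    (nat_lit 0xf0000000000000000000000000000000054000000000000000000000000000000016800000000000000000000000000000003f000000000000000000000000000000011100000000000000000000000000000004ec00000000000000000000000000000015f00000000000000000000000000000002f40000000000000000000000000000000be50000000000000000000000000000000f3c0000000000000000000000000000004ec0000000000000000000000000000000ca8000000000000000000000000000000099900000000000000000000000000000038e0000000000000000000000000000000e5b00000000000000000000000000000009d80000000000000000000000000000003cf00000000000000000000000000000016260000000000000000000000000000001ec300000000000000000000000000000127500000000000000000000000000000058980000000000000000000000000000001ffe000000000000000000000000000001baf80000000000000000000000000000081918000000000000000000000000000011da5000000000000000000000000000002e4640000000000000000000000000000031d5800000000000000000000000000002247000000000000000000000000000000a1f5e000000000000000000000000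000041f2080000000000000000000000000000eff1000000000000000000000000000001931a0000000000000000000000000000029874000000000000000000000000000008dd1154000000000000000000000000003efc100000000000000000000000000002229dd40000000000000000000000000087e7810000000000000000000000000003a2a2acdd000000000000000000000000026c7979ad000000000000000000000000d31b547f8f80000000000000000000002fc59d98c0500000000000000000080e45197b2fa12a60000000000000000074cda5419973effe800000000000000001d3406409917cbc67000000000000000046a7d364d31c6ae3aa000000000102d575e4ad77c563eeb24330040f8d83bf09ba31c647e05d40c16b13000) i1) (pk61d (nat_lit 5) 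
    (nat_lit 0x84418842108821186461046104c2108881104219886108463082823058) i1) (pk61d (nat_lit 7) 
    (nat_lit 0xc1840e182080c0c60708343981e30394181df881c30d123140c0c20401bf1a30183060c183060c183) i1) ((fun g1 : Nat → Nat => pk61l (fun i2 => (_root_.Prod.mk (pk61d (nat_lit 9) 
    (nat_lit 0x6961e430681c0a03) (pk61d (nat_lit 3) 
    (nat_lit 0x2102106822184110c84410d068a2110c84422110886884434190c844321a2110d10d0446443443443444688a88b1a23222c688d1a235446b1a2358d11ac688) i2)) (pk61d (nat_lit 3) 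
    (nat_lit 0x492492c924b2492592492592c92492592492492492c924964b25924964b2492592592494496496496496c92c92db24a24b6c929b24a6494db24a6d92536c92) i2))) (g1 i1) (g1 (Nat.succ i1)) List.nil) fun j => (pk61d (nat_lit 8) 
    (nat_lit 0xa8a6a4a2a09d9a989693908d8b8885827f7c797673706c696663605d5a56534f4c4945413d3934302a26201a150e0700) j)))) (nat_lit 0) (nat_lit 47) List.nil) : List Rec)
    = ?xq9014 → (List Rec)) ?hq9014; (case hq9014 => (set_option maxRecDepth 1000000 in set_option simprocs false in conv => lhs; reduce; dsimp only)); intro _; exact ?xq9014 : List Rec)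

/-- oplus4(31), psp3(31)/oodd3(31), psl3(961), psu4(31), psl4(31), g2(31), Th, psp2(31), S6(5), psl2(29791), psu3(31), psl3(31), L6(2), Ree(27), S6(3), S4(8), G2(5), psl2(961), O+8(2), 3D4(2), G2(4), S4(7), L3(9), U3(8), Tits, U4(3), L4(3), L5(2), L3(7), S4(5), G2(3), L2(125), A10, L2(64), S6(2), J2, U3(5), L3(5), A9, U3(4), L3(4), L2(49), Sz(8), L2(27), U4(2), L2(37), A8, L2(25), psl2(31), U3(3), L3(3), L2(19), A7, L2(13), L2(8), A6, L2(7), A5 -/
def L31 : List Rec :=
  (by
  refine (?fq9015 : ((pk61l (fun i1 => (_root_.Cfsg.Agent.N2.Ex.Mu.Sd.Rec.mk (pk61d (nat_lit 137) 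
    (nat_lit 0x7800000000000000000000000000000000a800000000000000000000000000000000b4000000000000000000000000000000007e0000000000000000000000000000000088800000000000000000000000000000009d800000000000000000000000000000006ae000000000000000000000000000000057c00000000000000000000000000000002f400000000000000000000000000000003a200000000000000000000000000000000f3c00000000000000000000000000000013b00000000000000000000000000000000c5b8000000000000000000000000000000654000000000000000000000000000000013320000000000000000000000000000001c700000000000000000000000000000001cb600000000000000000000000000000004ec000000000000000000000000000000079e0000000000000000000000000000000b130000000000000000000000000000000b5a40000000000000000000000000000001ec300000000000000000000000000000049d4000000000000000000000000000000589800000000000000000000000000000007ff8000000000000000000000000000001baf80000000000000000000000000000007733a0000000000000000000000000000103230000000000000000000000000000008ed28000000000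000000000000000000001ca3a000000000000000000000000000004c4a0000000000000000000000000000001723200000000000000000000000000000063ab00000000000000000000000000000112380000000000000000000000000000002a15000000000000000000000000000000a1f5e0000000000000000000000000000107c8200000000000000000000000000000eff100000000000000000000000000000064c6800000000000000000000000000000298740000000000000000000000000000034e63780000000000000000000000000015d393ec0000000000000000000000000001f7e0800000000000000000000000000004453ba80000000000000000000000000004b0d920f000000000000000000000000004b18d8000000000000000000000000000210f9c4d40000000000000000000000000319844a60000000000000000000000000180bf448fcc00000000000000000000000cfd208ef92000000000000000000000000ba2af2f208000000000000000000000050993d218fa0000000000000000000051fb8d757017f4600000000000000000027b57e58d497905e00000000000000000009ed8b43e8c5cd18000000000000000000cd62310cdf7c02e08000000000010694beee396f4ae8dbcf980001a48234731d711e97c622cf8e0743000000)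 i1) (pk61d (nat_lit 5) 
    (nat_lit 0x4220c42108422084230c8c20846104c23084611102910421988130862308c21082443058) i1) (pk61d (nat_lit 7) 
    (nat_lit 0x183081c3041220303181c9041a1cc0f181cc14181df887c386301e689187140c0c20401947e34d1f060c1be0660183060c183) i1) ((fun g1 : Nat → Nat => pk61l (fun i2 => (_root_.Prod.mk (pk61d (nat_lit 9) 
    (nat_lit 0x52c4a130681c0a03) (pk61d (nat_lit 3) 
    (nat_lit 0x420420d044421840864222c04341a28844321104221108868844221a0c888221908864441a2110d10d044564221a21a22c6822311111a221a22b223446888d59163446b1a2358d11ac688) i2)) (pk61d (nat_lit 3) 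
    (nat_lit 0x96496532c964a2c928964a6494ca6592c944b24964b2592992c964a6512d964a2592896ca64b2532532c948964a64a64a69964b25b25b64a64a44b4c96d92d22534c969a64b4d325a6992) i2))) (g1 i1) (g1 (Nat.succ i1)) List.nil) fun j => (pk61d (nat_lit 8) 
    (nat_lit 0xc7c5c3c1bfbcb9b6b4b2b0adaaa7a5a29f9c999693918e8b8884817e7b7875726f6c6966625f5b5855514e4a46413e3b37322e2a25201b150e0700) j)))) (nat_lit 0) (nat_lit 58) List.nil) : List Rec)
    = ?xq9015 → (List Rec)) ?hq9015; (case hq9015 => (set_option maxRecDepth 1000000 in set_option simprocs false in conv => lhs; reduce; dsimp only)); intro _; exact ?xq9015 : List Rec)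


/-- the records for `q` -/
def LQ : ℕ → List Rec
  | 2 => L2
  | 3 => L3
  | 4 => L4
  | 5 => L5
  | 7 => L7
  | 8 => L8
  | 9 => L9
  | 11 => L11
  | 13 => L13
  | 16 => L16
  | 17 => L17
  | 19 => L19
  | 23 => L23
  | 25 => L25
  | 27 => L27
  | 29 => L29
  | 31 => L31
  | _ => []

/-- **[Cand]** -/
def BoxCand : Prop := Cf → ∀ (l : ℕ) (tw : Bool) (p f T : ℕ) (ι : Type) [Fintype ι] [DecidableEq ι] (S : ι → Type) [∀ i, Group (S i)],
  MB l tw p f T S → p ^ f < 32 → ∀ i, NoBig (p ^ f) (S i) → ∃ x ∈ LQ (p ^ f), Ok p f (S i) x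

end Cfsg.Agent.N2.Ex.Mu.Sd
end

-- part: N2/Ex/Mu/Num/SCv
section
/-!
# N2 (S3519), several components, `q < 32`: the lists for the search (helper83)
-/

set_option autoImplicit false

namespace Cfsg.Agent.N2.Ex.Mu.Sq

/-- the record for the search -/
def cv (x : Sd.Rec) : Rec := ⟨x.t, x.ou, x.el.reverse, Nat.beq x.t 360 || Nat.beq x.t 6048 || Nat.beq x.t 25920⟩

/-- the list for the field of `p ^ f` elements -/
noncomputable def cand (p f : ℕ) : List Rec := (Sd.LQ (p ^ f)).map cv

/-- the five runs for one field -/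
def Five (p f : ℕ) : Prop :=
  chk (par 4 false p f) (cand p f) = true ∧ chk (par 6 false p f) (cand p f) = true ∧ chk (par 6 true p f) (cand p f) = true ∧
    chk (par 7 false p f) (cand p f) = true ∧ chk (par 8 false p f) (cand p f) = true

end Cfsg.Agent.N2.Ex.Mu.Sq
end

-- part: N2/Ex/Mu/Num/SRul
section
/-!
# N2 (S3519), several components, the arithmetic: the rules in numerical form (helper93)
-/

set_option autoImplicit false
set_option linter.unusedSectionVars false

namespace Cfsg.Agent.N2.Ex.Mu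

open Cfsg Finset

/-- the result of the averaging -/
def kav (r₀ e nx : ℕ) : ℕ := ((r₀ - 1) * e + nx - 1) / r₀ / 2 * 2

theorem le_kav {r₀ e e' nx k : ℕ} (h0 : 0 < r₀) (he : e ≤ e') (hk : Even k) (h : r₀ * k + e < r₀ * e + nx) : k ≤ kav r₀ e' nx := by
  obtain ⟨r, rfl⟩ : ∃ r, r₀ = r + 1 := ⟨r₀ - 1, by omega⟩
  have h1 : k ≤ (r * e' + nx - 1) / (r + 1) := by
    refine (Nat.le_div_iff_mul_le h0).2 ?_
    have := Nat.mul_le_mul_left r he
    rw [mul_comm k, add_mul r 1 k]
    rw [add_mul r 1 k, add_mul r 1 e] at h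
    omega
  obtain ⟨m, rfl⟩ := hk
  rw [kav, Nat.add_sub_cancel]
  omega

theorem SZ_mono {l : ℕ} (hl : l = 4 ∨ l = 6 ∨ l = 7 ∨ l = 8) {a b : ℕ} (h : a ≤ b) : SZ l a ≤ SZ l b := by
  have key : ∀ a < 9, ∀ b < 9, a ≤ b → SZ l a ≤ SZ l b := by rcases hl with rfl | rfl | rfl | rfl <;> decide
  have e : ∀ a, SZ l a = SZ l (min a 8) := fun a => by
    rcases le_total a 8 with k | k
    · rw [min_eq_left k]
    · rw [min_eq_right k, SZ, SZ, if_pos (by omega), if_pos (by omega)]
  rw [e a, e b]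
  exact key _ (by omega) _ (by omega) (by omega)

theorem cop6 {r : ℕ} (hr : r.Prime) (h5 : 5 ≤ r) : r.Coprime 6 := by
  refine (Nat.Prime.coprime_iff_not_dvd hr).2 fun h => ?_
  have h6 := Nat.le_of_dvd (by norm_num) h
  interval_cases r
  exacts [absurd h (by norm_num), absurd hr (by norm_num)]

theorem card_dvd_aut {N : Type} [Group N] [Finite N] (hs : IsSimpleGroup N) (hc : ¬ IsMulCommutative N) :
    Nat.card N ∣ Nat.card (MulAut N) := Subgroup.card_dvd_of_injective _ (conj_inj hc)

theorem div_dvd {a u t : ℕ} (h : a ∣ u * t) (ht : t ∣ a) (h0 : 0 < t) : a / t ∣ u := by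
  obtain ⟨c, rfl⟩ := ht
  rw [Nat.mul_div_cancel_left _ h0]
  exact Nat.dvd_of_mul_dvd_mul_left h0 (mul_comm u t ▸ h)

variable {ι : Type} [Fintype ι] [DecidableEq ι] {l : ℕ} {tw : Bool} {p f T : ℕ} {S : ι → Type} [∀ i, Group (S i)] {G : Prop}
  {κ : ℕ} {W : Finset ι → ℕ → ℕ → Prop} {E : ι → Prop} (X : Mx l tw p f T S G κ W E)
include X

theorem Mx.av {I J : Finset ι} {r : ι → ℕ} {o₀ e nx : ℕ} (h : Av W I J r o₀ e nx) {r₀ e' : ℕ} (h0 : 0 < r₀) (hr : ∀ j ∈ J, r₀ ≤ r j)
    (he : e ≤ e') : ∃ o, o ∣ o₀ * ∏ j ∈ J, r j ∧ W I (kav r₀ e' nx) o :=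
  let ⟨_, o, h1, h2, h3, h4⟩ := h.2.2.2 r₀ hr
  ⟨o, h2, X.a.mono _ _ _ _ _ h1 Subset.rfl (le_kav h0 he h3 h4)⟩

/-- **chains** -/
theorem Mx.c1w {J : Finset ι} {j₀ : ι} {r n : ι → ℕ} (hj : j₀ ∈ J) (h : ∀ j ∈ J, 5 ≤ r j ∧ El (p ^ f) (S j) (r j) (n j)) {s : ℕ}
    (hs : s ≤ ∑ j ∈ J.erase j₀, (n j).totient) : s ≤ rk1 l (r j₀) (n j₀) ∧
      (Set.InjOn r J → W J (SZ l (rk1 l (r j₀) (n j₀) - s)) (∏ j ∈ J, r j)) ∧
      ∀ r₀, 0 < r₀ → (∀ j ∈ J, r₀ ≤ r j) → ∃ o, o ∣ ∏ j ∈ J, r j ∧ W J (kav r₀ (SZ l (rk1 l (r j₀) (n j₀) - s)) (SZ l l)) o := by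
  obtain ⟨ρ, e, h1, h2, h3⟩ := X.c.c1 J j₀ r n hj h
  rw [Rc] at h1
  have h4 : e ≤ SZ l (rk1 l (r j₀) (n j₀) - s) := h2.trans (SZ_mono X.hl (by omega))
  refine ⟨by omega, fun k => X.a.mono _ _ _ _ _ (one_mul (∏ j ∈ J, r j) ▸ h3.2.2.1 k) Subset.rfl h4, fun r₀ h0 hr => ?_⟩
  simpa only [one_mul] using X.av h3 h0 hr h4

/-- **pairs** -/
theorem Mx.pair {i j : ι} (hij : i ≠ j) {r n r' n' : ℕ} (h5 : 5 ≤ r) (h5' : 5 ≤ r') (h : El (p ^ f) (S i) r n)
    (h' : El (p ^ f) (S j) r' n') : n'.totient ≤ rk1 l r n ∧ (r ≠ r' → W {i, j} (SZ l (rk1 l r n - n'.totient)) (r * r')) ∧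
      (l = 4 → ∃ o, o ∣ r * r' ∧ W {i, j} 8 o) := by
  obtain ⟨a1, a2, a3⟩ := X.c1w (J := {i, j}) (j₀ := i) (r := fun x => if x = i then r else r') (n := fun x => if x = i then n else n')
    (mem_insert_self _ _) (fun x hx => by
      rcases mem_insert.1 hx with rfl | hx
      · simpa using ⟨h5, h⟩
      · obtain rfl := mem_singleton.1 hx
        simpa [hij.symm] using ⟨h5', h'⟩) (s := n'.totient) (by
      rw [erase_insert (by simpa using hij), sum_singleton, if_neg hij.symm])
  simp only [prod_pair hij, if_true, if_neg hij.symm] at a1 a2 a3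
  refine ⟨a1, fun k => a2 ?_, fun k => ?_⟩
  · rw [coe_pair, Set.injOn_insert (by simpa using hij)]
    simpa [hij.symm] using k
  · obtain ⟨o, b1, b2⟩ := a3 5 (by norm_num) fun x _ => by split_ifs <;> assumption
    have c : ∀ {r n : ℕ} {N : Type} [Group N], 5 ≤ r → El (p ^ f) N r n → 1 ≤ n.totient ∧ r.Coprime 6 := fun k1 k2 =>
      ⟨Nat.totient_pos.2 (Nat.pos_of_dvd_of_pos k2.dvd (by omega)), cop6 k2.1 k1⟩
    refine ⟨o, b1, X.a.gap _ _ _ b2 k (((c h5 h).2.mul_left (c h5' h').2).coprime_dvd_left b1) ?_⟩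
    subst k
    have b3 : rk1 4 r n - n'.totient ≤ 2 := by
      have := (c h5 h).1
      have := (c h5' h').1
      simp only [rk1, show ¬ (4 = 6 ∧ 4 ∣ n) from fun k => absurd k.1 (by decide), show ¬ (4 = 8 ∧ r = 5) from fun k => absurd k.1 (by decide),
        if_false]
      omega
    generalize rk1 4 r n - n'.totient = ρ at b3
    interval_cases ρ <;> decide

/-- two choices of the element of order three: one of them is not of the class `D₅ T₁` -/
theorem Mx.ne_E {i i' : ι} (h : i ≠ i') : ¬ E i ∨ ¬ E i' := by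
  by_contra k
  push Not at k
  exact h (X.n.ee i i' k.1 k.2)

/-- the product of the orders of some components divides `T` -/
theorem Mx.lagI (I : Finset ι) : ∏ i ∈ I, Nat.card (S i) ∣ T :=
  (prod_dvd_prod_of_subset _ _ _ (subset_univ _)).trans ((dvd_mul_right _ κ).trans X.a.lag)

/-- a win from a bound for `|A|` -/
theorem Mx.winB {I : Finset ι} {k o B : ℕ} (w : W I k o) (hB : (∏ i, Nat.card (S i)) * κ ≤ B) (h : cb l (p ^ f) k ^ 3 * B ≤ T) : G :=
  X.a.win I k o w ((Nat.mul_le_mul_left _ hB).trans h)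

theorem Mx.kdv {u : ι → ℕ} (hu : ∀ i, Nat.card (MulAut (S i)) ∣ u i * Nat.card (S i)) : κ ∣ (∏ i, u i) * mu fun i => Nat.card (S i) :=
  X.a.kdv.trans (Nat.mul_dvd_mul_right (prod_dvd_prod_of_dvd _ _ fun i _ =>
    have := X.b.fin i
    div_dvd (hu i) (card_dvd_aut (X.b.simple i) (X.b.nonab i)) Nat.card_pos) _)

/-- the exact bound -/
theorem Mx.A_ex {u : ι → ℕ} (h0 : ∀ i, u i ≠ 0) (hu : ∀ i, Nat.card (MulAut (S i)) ∣ u i * Nat.card (S i)) :
    (∏ i, Nat.card (S i)) * κ ≤ (∏ i, Nat.card (S i)) * ((∏ i, u i) * mu fun i => Nat.card (S i)) :=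
  Nat.mul_le_mul_left _ (Nat.le_of_dvd (Nat.mul_pos (prod_pos fun i _ => Nat.pos_of_ne_zero (h0 i))
    (prod_pos fun _ _ => Nat.factorial_pos _)) (X.kdv hu))

/-- the criterion without the outer automorphisms -/
theorem Mx.leafK {u : ι → ℕ} (hu : ∀ i, Nat.card (MulAut (S i)) ∣ u i * Nat.card (S i)) {I : Finset ι} {k o o' : ℕ} (w : W I k o)
    (ho : o ∣ o') (hc : o'.Coprime ((∏ i, u i) * mu fun i => Nat.card (S i))) (h : cb l (p ^ f) k ^ 3 * ∏ i, Nat.card (S i) ≤ T) : G :=
  X.a.winK I k o w ((hc.coprime_dvd_left ho).coprime_dvd_right (X.kdv hu)) h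

end Cfsg.Agent.N2.Ex.Mu
end

section
/-!
# N2 (S3519): a fast path for the kernel test (one fact of a pair is enough in most cases)
-/

namespace Cfsg.Agent.N2.Ex.Mu.Sq.Fast

theorem umin_of (P : Par) (c : ℕ → Bool) (B : ℕ) (hc : ∀ m ≤ B, c m = true) (F : List Fct) (u₀ : ℕ)
    (h : u₀ ≤ B ∨ ∃ z, some z ∈ F ∧ z.2.2 ≠ 0 ∧ z.2.2 * cb P.l P.q z.1 ≤ B) : umin P F u₀ c = true := by
  induction F generalizing u₀ with
  | nil => exact hc u₀ (h.resolve_right fun ⟨_, h, _⟩ => absurd h List.not_mem_nil)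
  | cons φ F ih =>
    cases φ with
    | none => rfl
    | some z =>
      show cond (Nat.beq z.2.2 0) (umin P F u₀ c) (fo (min (z.2.2 * cb P.l P.q z.1) u₀) fun u => umin P F u c) = true
      rw [fo_eq]
      cases e : Nat.beq z.2.2 0 with
      | false =>
        refine ih _ ?_
        rcases h with h | ⟨w, hw, h1, h2⟩
        · exact .inl ((Nat.min_le_right _ _).trans h)
        · rcases List.mem_cons.1 hw with k | k
          · exact .inl ((Nat.min_le_left _ _).trans (Option.some.inj k ▸ h2))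
          · exact .inr ⟨w, k, h1, h2⟩
      | true =>
        refine ih _ ?_
        rcases h with h | ⟨w, hw, h1, h2⟩
        · exact .inl h
        · rcases List.mem_cons.1 hw with k | k
          · exact absurd (Nat.eq_of_beq_eq_true e) (Option.some.inj k ▸ h1)
          · exact .inr ⟨w, k, h1, h2⟩

theorem kmin_of (c : ℕ → Bool) (B : ℕ) (hc : ∀ m ≤ B, c m = true) (F : List Fct) (k₀ : ℕ)
    (h : k₀ ≤ B ∨ ∃ z, some z ∈ F ∧ z.1 ≤ B) : kmin F k₀ c = true := by
  induction F generalizing k₀ with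
  | nil => exact hc k₀ (h.resolve_right fun ⟨_, h, _⟩ => absurd h List.not_mem_nil)
  | cons φ F ih =>
    cases φ with
    | none => rfl
    | some z =>
      show (fo (min z.1 k₀) fun u => kmin F u c) = true
      rw [fo_eq]
      refine ih _ ?_
      rcases h with h | ⟨w, hw, h2⟩
      · exact .inl ((Nat.min_le_right _ _).trans h)
      · rcases List.mem_cons.1 hw with k | k
        · exact .inl ((Nat.min_le_left _ _).trans (Option.some.inj k ▸ h2))
        · exact .inr ⟨w, k, h2⟩

theorem ok_mono {P : Par} (hq : 0 < P.q) {A A' k k' : ℕ} (hA : A' ≤ A) (hk : k' ≤ k) (h : ok P A k = true) :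
    ok P A' k' = true := by
  have h' : (Nat.blt k 1000 && Nat.ble (cb P.l P.q k ^ 3 * A) P.T) = true := h
  show (Nat.blt k' 1000 && Nat.ble (cb P.l P.q k' ^ 3 * A') P.T) = true
  rw [Bool.and_eq_true, Nat.blt_eq, Nat.ble_eq] at h' ⊢
  have h1 : P.q ^ k' * (P.q + 1) ^ P.l ≤ P.q ^ k * (P.q + 1) ^ P.l := Nat.mul_le_mul_right _ (Nat.pow_le_pow_right hq hk)
  exact ⟨hk.trans_lt h'.1, (Nat.mul_le_mul (Nat.pow_le_pow_left h1 3) hA).trans h'.2⟩

/-- the test with one fact -/
def tst (P : Par) (u k : ℕ) : Bool := fo k fun k => ok P (Nat.mul u (cb P.l P.q k)) k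

theorem win_of {P : Par} {K : List Rec} (tb : List Rec) (hq : 0 < P.q) {k o u : ℕ} (h : some (k, o, u) ∈ fA P K) (hu : u ≠ 0)
    (hk : tst P u k = true) : win P K tb = true := by
  rw [tst, fo_eq] at hk
  show (_ || umin P (fA P K) (aB P K tb) fun A => kmin (fA P K) 1000 fun k => ok P A k || _) = true
  rw [umin_of P _ (u * cb P.l P.q k) (fun A hA => kmin_of _ k (fun m hm => by rw [ok_mono hq hA hm hk]; rfl) _ _
    (.inr ⟨_, h, le_rfl⟩)) _ _ (.inr ⟨_, h, hu, le_rfl⟩), Bool.or_true]

/-- the first member with `f`, else the first member with `g` -/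
def pk (l : List (ℕ × ℕ)) (f g : ℕ × ℕ → Bool) : Option (ℕ × ℕ) := (l.find? f).or (l.find? g)

theorem pk_some {l : List (ℕ × ℕ)} {f g : ℕ × ℕ → Bool} {e : ℕ × ℕ} (h : pk l f g = some e) :
    e ∈ l ∧ (f e = true ∨ g e = true) := by
  rw [pk] at h
  cases h1 : l.find? f with
  | none =>
    rw [h1, Option.none_or] at h
    exact ⟨List.mem_of_find?_eq_some h, .inr (List.find?_some h)⟩
  | some x =>
    rw [h1, Option.some_or] at h
    rw [h] at h1
    exact ⟨List.mem_of_find?_eq_some h1, .inl (List.find?_some h1)⟩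

/-- first element of a chain -/
def f1 (a : Rec) : Option (ℕ × ℕ) := pk a.el (fun e => Nat.ble 7 e.1 && Nat.ble 4 e.2) fun e => Nat.ble 5 e.1

/-- second element of a chain -/
def f2 (b : Rec) (r : ℕ) : Option (ℕ × ℕ) :=
  pk b.el (fun e => (Nat.ble 5 e.1 && !Nat.beq r e.1) && Nat.ble 4 e.2) fun e => Nat.ble 5 e.1 && !Nat.beq r e.1

/-- the element for `t3` -/
def f3 (a : Rec) : Option (ℕ × ℕ) := pk a.el (fun e => Nat.ble 5 e.1 && Nat.beq e.2 6) fun e => Nat.ble 5 e.1 && Nat.beq e.2 4

/-- the fact `c1` -/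
def tc (P : Par) (a b : Rec) (u : ℕ) : Bool :=
  Option.rec false (fun e => Option.rec false (fun e' => Nat.ble (ph e'.2) (rk P.l e.1 e.2) &&
    tst P u (SZ P.l (rk P.l e.1 e.2 - ph e'.2))) (f2 b e.1)) (f1 a)

/-- the fact `t3` -/
def tt (P : Par) (a b : Rec) (u : ℕ) : Bool :=
  (Nat.beq P.p 2 && Nat.beq (b.t % 3) 0) && Option.rec false (fun e => Option.rec false (fun k => tst P u k) (gT P.l 3 e.2)) (f3 a)

theorem tc_ok {P : Par} {a b : Rec} (h : tc P a b (P.M * a.t * (P.M * b.t)) = true) :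
    ∃ k o, some (k, o, P.M * a.t * (P.M * b.t)) ∈ r2 P a b ∧ tst P (P.M * a.t * (P.M * b.t)) k = true := by
  rw [tc] at h
  cases h1 : f1 a with
  | none => rw [h1] at h; cases h
  | some e =>
    rw [h1] at h
    cases h2 : f2 b e.1 with
    | none =>
      have h' : (Option.rec false _ (f2 b e.1) : Bool) = true := h
      rw [h2] at h'; cases h'
    | some e' =>
      have h' : (Option.rec false _ (f2 b e.1) : Bool) = true := h
      rw [h2] at h'
      have h3 : (Nat.ble (ph e'.2) (rk P.l e.1 e.2) && tst P _ (SZ P.l (rk P.l e.1 e.2 - ph e'.2))) = true := h'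
      rw [Bool.and_eq_true, Nat.ble_eq] at h3
      obtain ⟨he, h4⟩ := pk_some h1
      obtain ⟨he', h5⟩ := pk_some h2
      have h6 : 5 ≤ e.1 := by
        rcases h4 with h4 | h4
        · rw [Bool.and_eq_true, Nat.ble_eq] at h4
          omega
        · exact Nat.le_of_ble_eq_true h4
      have h7 : (Nat.ble 5 e'.1 && !Nat.beq e.1 e'.1) = true := h5.elim (fun h => (Bool.and_eq_true_iff.1 h).1) id
      rw [Bool.and_eq_true, Nat.ble_eq, Bool.not_eq_true'] at h7
      refine ⟨_, e.1 * e'.1, ?_, h3.2⟩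
      rw [r2, fo_eq]
      refine List.mem_append_right _ (List.mem_flatMap.2 ⟨e, he, List.mem_append_right _ ?_⟩)
      rw [if_pos h6]
      refine List.mem_flatMap.2 ⟨e', he', ?_⟩
      rw [if_pos h7.1, if_neg (not_lt.2 h3.1), if_pos (Nat.ne_of_beq_eq_false h7.2)]
      exact List.mem_singleton_self _

theorem tt_ok {P : Par} {a b : Rec} (h : tt P a b (P.M * a.t * (P.M * b.t)) = true) :
    ∃ k o, some (k, o, P.M * a.t * (P.M * b.t)) ∈ r2 P a b ∧ tst P (P.M * a.t * (P.M * b.t)) k = true := by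
  rw [tt, Bool.and_eq_true, Bool.and_eq_true, Nat.beq_eq, Nat.beq_eq] at h
  obtain ⟨⟨hp, h3⟩, h⟩ := h
  cases h1 : f3 a with
  | none => rw [h1] at h; cases h
  | some e =>
    rw [h1] at h
    have h' : (Option.rec false _ (gT P.l 3 e.2) : Bool) = true := h
    cases h2 : gT P.l 3 e.2 with
    | none => rw [h2] at h'; cases h'
    | some k =>
      rw [h2] at h'
      obtain ⟨he, h4⟩ := pk_some h1
      rw [Bool.and_eq_true, Bool.and_eq_true, Nat.ble_eq, Nat.beq_eq, Nat.beq_eq] at h4
      refine ⟨k, 3 * e.1, ?_, h'⟩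
      rw [r2, fo_eq]
      refine List.mem_append_right _ (List.mem_flatMap.2 ⟨e, he, List.mem_append_left _ (List.mem_append_left _ ?_)⟩)
      rw [if_pos (Or.inr (h4.symm.imp And.right And.right)), if_neg (not_not.2 hp), if_pos ⟨h4.elim And.left And.left, h3⟩, h2]
      exact List.mem_singleton_self _

/-- the fast test for two members -/
def fast (P : Par) (a b : Rec) : Bool := fo (P.M * a.t * (P.M * b.t)) fun u =>
  (Nat.ble 1 P.q && Nat.ble 1 u) && (tc P b a u || (tt P b a u || (tt P a b u || tc P a b u)))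

theorem fast_ok {P : Par} {a b : Rec} (K tb : List Rec) (h : fast P a b = true) : win P (a :: b :: K) tb = true := by
  rw [fast, fo_eq, Bool.and_eq_true, Bool.and_eq_true, Nat.ble_eq, Nat.ble_eq, Bool.or_eq_true, Bool.or_eq_true, Bool.or_eq_true] at h
  obtain ⟨⟨hq, hu⟩, h⟩ := h
  have h1 : ∀ φ ∈ r2 P a b, φ ∈ fA P (a :: b :: K) := fun φ hφ => List.mem_append_right _
    (List.mem_flatMap.2 ⟨(a, b :: K), List.mem_cons_self, List.mem_flatMap.2 ⟨b, List.mem_cons_self, hφ⟩⟩)
  have h2 : ∀ φ ∈ r2 P b a, φ ∈ fA P (a :: b :: K) := fun φ hφ => List.mem_append_right _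
    (List.mem_flatMap.2 ⟨(b, a :: K), List.mem_cons_of_mem _ List.mem_cons_self, List.mem_flatMap.2 ⟨a, List.mem_cons_self, hφ⟩⟩)
  have e : P.M * a.t * (P.M * b.t) = P.M * b.t * (P.M * a.t) := Nat.mul_comm _ _
  rcases h with h | h | h | h
  · rw [e] at h hu
    obtain ⟨k, o, h3, h4⟩ := tc_ok h
    exact win_of tb hq (h2 _ h3) (Nat.ne_of_gt hu) h4
  · rw [e] at h hu
    obtain ⟨k, o, h3, h4⟩ := tt_ok h
    exact win_of tb hq (h2 _ h3) (Nat.ne_of_gt hu) h4
  · obtain ⟨k, o, h3, h4⟩ := tt_ok h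
    exact win_of tb hq (h1 _ h3) (Nat.ne_of_gt hu) h4
  · obtain ⟨k, o, h3, h4⟩ := tc_ok h
    exact win_of tb hq (h1 _ h3) (Nat.ne_of_gt hu) h4

/-- `win` with the fast path -/
def win2 (P : Par) (K tb : List Rec) : Bool :=
  !Nat.beq (P.T % (K.map Rec.t).prod) 0 ||
    (List.rec (motive := fun _ => Bool) false
      (fun a L _ => List.rec (motive := fun _ => Bool) false (fun b _ _ => fast P a b) L) K || win P K tb)

theorem win2_eq (P : Par) : win2 P = win P := by
  funext K tb
  cases h : win P K tb with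
  | true => rw [win2, h, Bool.or_true, Bool.or_true]
  | false =>
    rw [win2, h, Bool.or_false, Bool.or_eq_false_iff]
    refine ⟨(Bool.or_eq_false_iff.1 h).1, ?_⟩
    match K, h with
    | [], _ => rfl
    | [_], _ => rfl
    | a :: b :: K, h =>
      show fast P a b = false
      cases e : fast P a b with
      | false => rfl
      | true => rw [fast_ok K tb e] at h; cases h

/-- the search with a given test -/
def dfsW (w : List Rec → List Rec → Bool) (fuel : ℕ) : List Rec → List Rec → Bool :=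
  Nat.rec (motive := fun _ => List Rec → List Rec → Bool) (fun _ _ => true) (fun _ nx K tb =>
    List.rec (motive := fun _ => Bool) true (fun a tb ih =>
      (w (a :: K) (a :: tb) || ((K.isEmpty || w (a :: K) []) && nx (a :: K) (a :: tb))) && ih) tb) fuel

/-- `chk` with the fast path -/
def chk2 (P : Par) (L : List Rec) : Bool :=
  foL (fun a => Nat.beq (P.T % a.t) 0) L fun L => foL (fun a => !win P [a] L) L fun L => foL (fun a => !win P [a] L) L fun L =>
    dfsW (win2 P) P.M [] L

theorem chk_of {P : Par} {L : List Rec} (h : chk2 P L = true) : chk P L = true := by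
  rw [chk2, win2_eq] at h
  exact h

end Cfsg.Agent.N2.Ex.Mu.Sq.Fast
end

private theorem dce_9e9b480ee92c : _root_.True := by
  try have : _root_.True := by simp only [_root_.Cfsg.Agent.N2.Ex.Mu.SZ.eq_1]
  try have : _root_.True := by simp only [_root_.Cfsg.Agent.N2.Ex.Mu.Sq.rC3.eq_def]
  try have : _root_.True := by simp only [_root_.Cfsg.Agent.N2.Ex.Mu.kav.eq_1]
  try have : _root_.True := by simp only [_root_.Cfsg.Agent.N2.Ex.Mu.Sq.Holds.eq_def]
  try have : _root_.True := by simp only [_root_.Cfsg.Agent.N2.Ex.Mu.Sd.LQ.eq_def]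
  try have : _root_.True := by simp only [_root_.Cfsg.Agent.N2.Ex.Mu.Sq.rC1.eq_def]
  exact _root_.True.intro
end

-- part: N2/Ex/Sim/TrA
section
set_option linter.all false
open scoped Cfsg.Agent.FastGrp

/-!
# N2 (S3519), simple socle: tools for generating triples (helper85)
-/

set_option autoImplicit false

namespace Cfsg.Agent.N2.Ex.Sm.Trp

open Cfsg Subgroup Cfsg.Agent.N2.Tg Cfsg.Agent.N2.Tg.Eng

variable {N : Type} [Group N] {p B n o a b c r : ℕ} {X Y : List ℕ}

theorem full (H : Has p B n N o [X, Y]) (L : List (ℕ × ℕ × ℕ × List (List ℕ))) (h : chkT p B n X Y L o a b c = true) :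
    Sm.Tr N a b c := by
  obtain ⟨_, _, _, _, _, _, _, C, k⟩ := H
  obtain ⟨x, y, h1, h2, h3, h4, -⟩ := C.core k h
  exact ⟨x, y, h1, h2, h4, h3⟩

/-- a subgroup of small index of a simple group -/
theorem top_of_index [Finite N] [IsSimpleGroup N] (hr : r.Prime) (hd : r ∣ Nat.card N) {K : Subgroup N} (h : K.index < r) :
    K = ⊤ := by
  rcases K.normalCore_normal.eq_bot_or_eq_top with k | k
  · have h1 : Nat.card N ∣ K.index.factorial := by
      have := K.normalCore.index_mul_card
      rw [k, index_bot] at this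
      rw [← index_bot, ← k, normalCore_eq_ker, index_ker, index_eq_card, ← Nat.card_perm]
      exact card_subgroup_dvd_card _
    exact absurd (hr.dvd_factorial.1 (hd.trans h1)) (not_le.2 h)
  · exact top_le_iff.1 (k ▸ K.normalCore_le)

/-- the chain proves only that the index is less than the prime `r` -/
theorem part [Finite N] [IsSimpleGroup N] (hn : ¬ IsMulCommutative N) (hr : r.Prime) (hd : r ∣ Nat.card N)
    (H : Has p B n N o [X, Y]) (L : List (ℕ × ℕ × ℕ × List (List ℕ))) (h : chkT p B n X Y L (o / r + 1) a b c = true) :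
    Sm.Tr N a b c := by
  obtain ⟨_, _, bl, G, _, ρ, f, C, ho⟩ := H
  have := finite_of C.fr C.inj
  simp only [chkT, frcL_eq, Bool.and_eq_true, Nat.ble_eq, Bool.not_eq_true'] at h
  obtain ⟨⟨⟨⟨⟨h1, h2⟩, h3⟩, h4⟩, -⟩, h6⟩ := h
  obtain ⟨x, -, hx⟩ := C.mem X (by simp)
  obtain ⟨y, -, hy⟩ := C.mem Y (by simp)
  have h5 : o / r + 1 ≤ Nat.card (closure ({x, y} : Set G)) := h2.trans (chain_le C.fr L _ _ (by
    simp only [List.mem_cons, List.not_mem_nil, or_false, forall_eq_or_imp, forall_eq]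
    exact ⟨⟨x, subset_closure (by simp), hx⟩, y, subset_closure (by simp), hy⟩) h1)
  have h7 : closure ({f x, f y} : Set N) = ⊤ := by
    rw [← Set.image_pair, ← MonoidHom.map_closure]
    refine top_of_index hr hd ((Nat.le_of_dvd (Nat.pos_of_ne_zero index_ne_zero_of_finite)
      (index_map_dvd _ C.sur)).trans_lt (lt_of_mul_lt_mul_right (a := Nat.card (closure ({x, y} : Set G))) ?_ (Nat.zero_le _)))
    rw [index_mul_card, ho]
    exact (Nat.lt_mul_div_succ o hr.pos).trans_le (Nat.mul_le_mul_left r h5)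
  have key : ∀ z : G, Commute z x → Commute z y → f z = 1 := fun z k1 k2 => by
    rcases (inferInstance : (center N).Normal).eq_bot_or_eq_top with k | k
    · exact mem_bot.1 (k ▸ mem_center_of h7 (k1.map f) (k2.map f))
    · exact absurd ⟨⟨fun u v => mem_center_iff.1 (k.ge (mem_top v)) u⟩⟩ hn
  have h8 : Rep p B n bl (cmp p B n X Y) (ρ (x * y)) := map_mul ρ x y ▸ hx.mul C.fr hy
  have h9 : Commute ((x * y) ^ c) x := (C.com (map_pow ρ _ c ▸ h8.pw C.fr c) hx).1 h6
  refine ⟨f x, f y, ?_, ?_, ?_, h7⟩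
  · rw [← map_pow]
    exact key _ (Commute.pow_self x a) ((C.com (map_pow ρ x a ▸ hx.pw C.fr a) hy).1 h3)
  · rw [← map_pow]
    exact key _ ((C.com (map_pow ρ y b ▸ hy.pw C.fr b) hx).1 h4) (Commute.pow_self y b)
  · rw [← map_mul, ← map_pow]
    refine key _ h9 ?_
    have := h9.inv_right.mul_right (Commute.pow_self (x * y) c)
    rwa [inv_mul_cancel_left] at this

/-- the field with 64 elements -/
abbrev Q6 : Type := QuadraticAlgebra (C3 (ZMod 2)) 1 1
/-- base -/
def b64 : List Q6 := [⟨⟨1, 0, 0⟩, 0⟩, ⟨⟨0, 1, 0⟩, 0⟩, ⟨⟨0, 0, 1⟩, 0⟩, ⟨0, ⟨1, 0, 0⟩⟩, ⟨0, ⟨0, 1, 0⟩⟩, ⟨0, ⟨0, 0, 1⟩⟩]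
/-- coordinates -/
def c64 (x : Q6) : List ℕ := [x.re.a.val, x.re.b.val, x.re.c.val, x.im.a.val, x.im.b.val, x.im.c.val]
/-- the field with 81 elements -/
abbrev Q81 : Type := QuadraticAlgebra (Q2 3 2 0) ⟨1, 1⟩ 0
/-- base -/
def b81 : List Q81 := [⟨⟨1, 0⟩, 0⟩, ⟨⟨0, 1⟩, 0⟩, ⟨0, ⟨1, 0⟩⟩, ⟨0, ⟨0, 1⟩⟩]
/-- coordinates -/
def c81 (x : Q81) : List ℕ := [x.re.re.val, x.re.im.val, x.im.re.val, x.im.im.val]

private theorem domQ {R : Type} [CommRing R] {a b : R} (h : ∀ x y : R, x * y = 0 → x = 0 ∨ y = 0)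
    (h' : ∀ x : QuadraticAlgebra R a b, x.norm = 0 → x = 0) (x y : QuadraticAlgebra R a b) (e : x * y = 0) : x = 0 ∨ y = 0 :=
  (h _ _ (by rw [← map_mul, e, QuadraticAlgebra.norm_zero])).imp (h' x) (h' y)

theorem rg64 : Rg Q6 2 6 b64 c64 :=
  ⟨by decide, by decide +kernel, rfl, by decide +kernel, by decide +kernel, by decide +kernel,
    domQ rg8.dom (by decide +kernel)⟩

private noncomputable def _root_.Cfsg.Agent.LsF.fb4b953_6 : {f // @Cfsg.Agent.N2.Ex.Sm.Trp.c81 = f} := ⟨_, by first | (delta Cfsg.Agent.N2.Ex.Sm.Trp.c81; rewrite [Cfsg.Agent.LsF.zval_eq]; exact rfl) | exact rfl⟩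
private noncomputable def _root_.Cfsg.Agent.LsF.fb4b953_1 : {f // @Cfsg.Agent.N2.Tg.Eng.lin = f} := ⟨_, by first | (delta Cfsg.Agent.N2.Tg.Eng.lin; rewrite [Cfsg.Agent.LsF.zipWith_eq, Cfsg.Agent.LsF.sum_eq]; exact rfl) | exact rfl⟩
private noncomputable def _root_.Cfsg.Agent.LsF.fb4b953_4 : {f // @Cfsg.Agent.N2.Tg.Eng.ftQ = f} := ⟨_, by first | (delta Cfsg.Agent.N2.Tg.Eng.ftQ; rewrite [Cfsg.Agent.LsF.prodFintype_eq, Cfsg.Agent.LsF.ofEqv_eq]; exact rfl) | exact rfl⟩
theorem rg81 : Rg Q81 3 4 b81 c81 :=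
  ⟨by decide, by decide +kernel, rfl, by (refine of_decide_eq_true ?_; (try (rewrite [Cfsg.Agent.LsF.fb4b953_6.2, Cfsg.Agent.LsF.fb4b953_1.2, Cfsg.Agent.LsF.fb4b953_4.2, Cfsg.Agent.LsF.zdecEq_eq, Cfsg.Agent.LsF.dForall_eq, Cfsg.Agent.LsF.instDecEq_eq, Cfsg.Agent.LsF.decLt_eq, Cfsg.Agent.LsF.dAnd_eq, Cfsg.Agent.LsF.dBAll_eq, Cfsg.Agent.LsF.length_eq, Cfsg.Agent.LsF.decide_eq])); decide +kernel), by decide +kernel, by decide +kernel, 
    domQ rg9.dom (by decide +kernel)⟩

end Cfsg.Agent.N2.Ex.Sm.Trp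
end

-- part: N2/Cl/RAlt/Main
section
set_option linter.all false
open scoped Cfsg.Agent.FastGrp

/-!
# N2, class S, alternating socle: the row (helper62)
-/

set_option autoImplicit false
set_option maxHeartbeats 400000

namespace Cfsg.Agent.N2C.RAlt

open Cfsg Subgroup Cfsg.Agent.N2.Tg Cfsg.Agent.N2C.RX

/-- the primes used -/
def prs : List ℕ := [5, 7, 11, 13, 17, 19, 23, 29, 31, 37, 41, 43, 47, 53]

theorem prs_prime : ∀ r ∈ prs, r.Prime ∧ 2 < r := by
  simp only [prs, List.forall_mem_cons]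
  norm_num

/-- the test for a cycle of prime length which generates a Sylow subgroup -/
def okE (m : ℕ) (x : El) : Bool := x.sy && prs.contains x.r && Nat.ble x.r m && Nat.blt m (2 * x.r) && okJ m x.r x.j &&
  Nat.ble (2 * x.M) (x.r * (x.r - 1) * (m - x.r).factorial) && (!x.sc || Nat.ble m (x.r + 2))

def lbA (m p : ℕ) : ℕ := m - 1 - (if p ∣ m then 1 else 0)

/-- two primes for the degrees from 14 on -/
def tab (m : ℕ) : List El :=
  ((if m ≤ 14 then [(11, 2)] else if m ≤ 18 then [(11, 2), (13, 2)] else if m ≤ 20 then [(13, 2), (17, 3)]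
    else if m ≤ 24 then [(17, 3), (19, 2)] else if m ≤ 30 then [(19, 2), (23, 5)] else if m ≤ 32 then [(23, 5), (29, 2)]
    else if m ≤ 38 then [(29, 2), (31, 3)] else if m ≤ 42 then [(31, 3), (37, 2)] else if m ≤ 44 then [(37, 2), (41, 6)]
    else if m ≤ 48 then [(41, 6), (43, 3)] else if m ≤ 54 then [(43, 3), (47, 5)] else [(47, 5), (53, 2)] : List (ℕ × ℕ))).map
    fun x => ⟨x.1, x.2, 0, 0, 0, true, false⟩

theorem tab_a (m : ℕ) : ∀ x ∈ tab m, x.a = 0 := fun x hx => by
  obtain ⟨y, -, rfl⟩ := List.mem_map.1 hx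
  rfl

def row (m ta tb : ℕ) : Bool := (tab m).all (okE m) && frc m.factorial fun A => frc (A / 2) fun o =>
  chk o A (m - 2) (lbA m) (fun _ _ _ => false) ta tb (tab m)

theorem row_lo : allR (fun m => row m 2 3) 5 14 = true := by decide +kernel

theorem row_hi : allR (fun m => row m 0 0) 42 19 = true := by decide +kernel

variable {t : Kd} {n q p T : ℕ} {N : Type} [Group N] [Finite N] {G : Prop} {c d : N → ℕ} {m : ℕ}

theorem ok_of (e : N ≃* alternatingGroup (Fin m)) {x : El} (h : okE m x = true)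
    (ht : x.a ≠ 0 → Tri (alternatingGroup (Fin m)) x.a x.b x.r) : x.Ok N := by
  obtain ⟨r, j, M, a, b, sy, s⟩ := x
  simp only [okE, Bool.and_eq_true, Bool.or_eq_true, Nat.ble_eq, Nat.blt_eq, List.contains_iff_mem, Bool.not_eq_true'] at h
  obtain ⟨⟨⟨⟨⟨⟨rfl, h1⟩, h2⟩, h3⟩, h4⟩, h5⟩, h6⟩ := h
  obtain ⟨hr, h7⟩ := prs_prime r h1
  have h8 : 5 ≤ r := by
    by_contra k
    obtain rfl | rfl : r = 3 ∨ r = 4 := by omega
    · exact absurd h1 (by decide)
    · exact absurd h1 (by decide)
  have h9 := not_sq_dvd_factorial hr h3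
  refine El.ok_syl hr (fun k => h9 ?_) (fun k => ?_) ((cj hr h7 h2 h4).congr e.symm) (fun k => (ht k).congr e.symm)
    (fun _ => (nz hr h7 h2 h5).map e.symm.toMonoidHom e.symm.injective) fun k => (sc hr h7 h2 ?_).congr e.symm
  · rw [← two_mul_card (c := m) (by omega), ← Nat.card_congr e.toEquiv]
    exact k.mul_left 2
  · rw [card_aut' e (by omega)] at k
    split_ifs at k with h10
    · obtain rfl | rfl : r = 5 ∨ r = 6 := by omega
      · exact absurd k (by decide)
      · exact absurd h1 (by decide)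
    · exact h9 k
  · exact h6.resolve_left (by rw [k]; decide)

variable [IsSimpleGroup N]

theorem sieve_of (R : RX.Rp t n q p T N G c d) (hna : ¬ IsMulCommutative N) (e : N ≃* alternatingGroup (Fin m)) (hm : 5 ≤ m)
    {lo ta tb : ℕ} {lb : ℕ → ℕ} {sk : Kd → ℕ → ℕ → Bool} {els : List El} (hlo : lo ≤ n) (hlb : lb p ≤ n)
    (hsk : sk t n q = false) (ht : ta ≠ 0 → ∃ c, Tri (alternatingGroup (Fin m)) ta tb c) (he : ∀ x ∈ els, x.Ok N)
    (h : chk (m.factorial / 2) (if m = 6 then 1440 else m.factorial) lo lb sk ta tb els = true) : G :=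
  R.sieve hna ((Nat.card_congr e.toEquiv).trans (card_alt (by omega))) (card_aut' e hm).le hlo hlb hsk
    (fun k => (ht k).imp fun _ h => h.congr e.symm) he h

theorem nine_of (R : RX.Rp t n q p T N G c d) (hna : ¬ IsMulCommutative N) (e : N ≃* alternatingGroup (Fin m)) (hm : 9 ≤ m)
    {ta tb : ℕ} {els : List El} (ht : ta ≠ 0 → ∃ c, Tri (alternatingGroup (Fin m)) ta tb c) (he : ∀ x ∈ els, x.Ok N)
    (h : chk (m.factorial / 2) m.factorial (m - 2) (lbA m) (fun _ _ _ => false) ta tb els = true) : G := by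
  have h1 : lbA m p ≤ n := deg_nine R.prime R.core e hm
  refine sieve_of R hna e (by omega) (le_trans ?_ h1) h1 rfl ht he (by rwa [if_neg (by omega)])
  rw [lbA]
  split_ifs <;> omega

theorem row_of (R : RX.Rp t n q p T N G c d) (hna : ¬ IsMulCommutative N) (e : N ≃* alternatingGroup (Fin m)) (hm : 9 ≤ m)
    {ta tb : ℕ} (ht : ta ≠ 0 → ∃ c, Tri (alternatingGroup (Fin m)) ta tb c) (h : row m ta tb = true) : G := by
  rw [row, Bool.and_eq_true, List.all_eq_true, frc_eq, frc_eq] at h
  exact nine_of R hna e hm ht (fun x hx => ok_of e (h.1 x hx) fun k => absurd (tab_a m x hx) k) h.2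

/-- **the row of the alternating groups** -/
theorem rowAlt : RowX qAlt := by
  rintro - t n q p T N _ _ _ G c d hna ⟨hL, m, hm, ⟨e⟩⟩ R
  have h5 := five_le R.dim
  by_cases h1 : 61 ≤ m
  · exact big R hna e h1
  by_cases h2 : 19 ≤ m
  · exact row_of R hna e (by omega) (fun k => absurd rfl k) (allR_sound row_hi h2 (by omega))
  by_cases h3 : 14 ≤ m
  · refine row_of R hna e (by omega) (fun _ => ?_) (allR_sound row_lo h3 (by omega))
    obtain rfl | rfl | rfl | rfl | rfl : m = 14 ∨ m = 15 ∨ m = 16 ∨ m = 17 ∨ m = 18 := by omega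
    exacts [⟨_, tri_14_2_3_13⟩, ⟨_, tri_15_2_3_13⟩, ⟨_, tri_16_2_3_13⟩, ⟨_, tri_17_2_3_17⟩, ⟨_, tri_18_2_3_17⟩]
  have k0 : ∀ {P : Prop}, (0 : ℕ) ≠ 0 → P := fun k => absurd rfl k
  obtain rfl | rfl | rfl | rfl | rfl | rfl | rfl | rfl | rfl :
    m = 5 ∨ m = 6 ∨ m = 7 ∨ m = 8 ∨ m = 9 ∨ m = 10 ∨ m = 11 ∨ m = 12 ∨ m = 13 := by omega
  · refine sieve_of R hna e le_rfl (lb := fun p => if p = 2 ∨ p = 5 then 10 ^ 9 else 5) (sk := fun _ _ _ => false) (ta := 2)
      (tb := 3) (els := [⟨5, 4, 0, 2, 3, true, false⟩]) h5 ?_ rfl (fun _ => ⟨_, tri_5_2_3_5⟩) ?_ (by decide +kernel)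
    · rwa [if_neg fun k => hL (lie_of_alt e (Or.inl ⟨rfl, k⟩))]
    · simp only [List.forall_mem_singleton]
      exact ok_of e (by decide) fun _ => tri_5_2_3_5
  · refine sieve_of R hna e hm (lb := fun p => if p = 3 then 10 ^ 9 else 5)
      (sk := fun t n q => q == 2 && ((t == .S && n == 6) || ((t == .P || t == .M) && n == 8))) (tb := 0)
      (els := [⟨5, 4, 0, 2, 4, true, true⟩]) h5 ?_ ?_ k0 ?_ (by decide +kernel)
    · rwa [if_neg fun k => hL (lie_of_alt e (Or.inr (Or.inl ⟨rfl, k⟩)))]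
    · rw [← Bool.not_eq_true]
      simp only [Bool.and_eq_true, Bool.or_eq_true, beq_iff_eq]
      rintro ⟨rfl, k⟩
      obtain rfl : p = 2 := by
        obtain ⟨f, hf, k1⟩ := R.pow
        exact (Nat.prime_dvd_prime_iff_eq R.prime Nat.prime_two).1 (k1 ▸ dvd_pow_self p hf.ne')
      rcases k with ⟨rfl, k⟩ | ⟨rfl | rfl, k⟩
      · exact not_six R.core trivial e (Or.inl k)
      · exact not_six R.core trivial e (Or.inr k)
      · exact not_six R.core trivial e (Or.inr k)
    · simp only [List.forall_mem_singleton]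
      exact ok_of e (by decide) fun _ => tri_6_2_4_5
  · refine sieve_of R hna e hm (lb := fun _ => 5) (sk := fun _ _ _ => false) (tb := 0)
      (els := [⟨5, 2, 0, 0, 0, true, false⟩, ⟨7, 2, 0, 2, 4, true, true⟩]) h5 h5 rfl k0 ?_ (by decide +kernel)
    simp only [List.forall_mem_cons]
    exact ⟨ok_of e (by decide) k0, ok_of e (by decide) fun _ => tri_7_2_4_7, by simp⟩
  · have h7 : p ≠ 2 := fun k => hL (lie_of_alt e (Or.inr (Or.inr ⟨rfl, k⟩)))
    have h8 := deg_eight R.prime h7 R.core e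
    refine sieve_of R hna e hm (lb := fun p => if p = 2 then 10 ^ 9 else 7) (sk := fun _ _ _ => false) (tb := 0)
      (els := [⟨7, 2, 0, 2, 5, true, true⟩]) h8 ?_ rfl k0 ?_ (by decide +kernel)
    · rwa [if_neg h7]
    · simp only [List.forall_mem_singleton]
      exact ok_of e (by decide) fun _ => tri_8_2_5_7
  · refine nine_of R hna e le_rfl (tb := 0) (els := [⟨7, 3, 0, 2, 4, true, true⟩]) k0 ?_ (by decide +kernel)
    simp only [List.forall_mem_singleton]
    exact ok_of e (by decide) fun _ => tri_9_2_4_7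
  · refine nine_of R hna e (by omega) (ta := 2) (tb := 3) (els := [⟨7, 3, 126, 2, 5, true, false⟩, ⟨5, 2, 0, 2, 6, false, false⟩])
      (fun _ => ⟨_, tri_10_2_3_9⟩) ?_ (by decide +kernel)
    simp only [List.forall_mem_cons]
    exact ⟨ok_of e (by decide) fun _ => tri_10_2_5_7,
      El.ok_tri Nat.prime_five ((triJ Nat.prime_five tri_10_2_6_5 (by decide)).congr e.symm), by simp⟩
  · refine nine_of R hna e (by omega) (ta := 2) (tb := 3) (els := [⟨7, 3, 0, 0, 0, true, false⟩, ⟨11, 3, 0, 2, 3, true, false⟩])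
      (fun _ => ⟨_, tri_11_2_3_11⟩) ?_ (by decide +kernel)
    simp only [List.forall_mem_cons]
    exact ⟨ok_of e (by decide) k0, ok_of e (by decide) fun _ => tri_11_2_3_11, by simp⟩
  · refine nine_of R hna e (by omega) (ta := 2) (tb := 3) (els := [⟨7, 3, 0, 0, 0, true, false⟩, ⟨11, 3, 0, 2, 3, true, false⟩])
      (fun _ => ⟨_, tri_12_2_3_11⟩) ?_ (by decide +kernel)
    simp only [List.forall_mem_cons]
    exact ⟨ok_of e (by decide) k0, ok_of e (by decide) fun _ => tri_12_2_3_11, by simp⟩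
  · refine nine_of R hna e (by omega) (ta := 2) (tb := 3) (els := [⟨7, 3, 0, 0, 0, true, false⟩, ⟨11, 2, 0, 0, 0, true, false⟩])
      (fun _ => ⟨_, tri_13_2_3_13⟩) ?_ (by decide +kernel)
    simp only [List.forall_mem_cons]
    exact ⟨ok_of e (by decide) k0, ok_of e (by decide) k0, by simp⟩

/-- the row `salt` of class S -/
theorem onAlt (b0 : BoxRp0) (bs : BoxSemi) (bg : BoxGreen) : On (pRes qAlt) := on_of b0 bs bg rowAlt

end Cfsg.Agent.N2C.RAlt

private theorem dce_ea7e35e4f977 : _root_.True := by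
  try have : _root_.True := by simp only [_root_.Cfsg.Agent.N2C.RAlt.lbA.eq_1]
  try have : _root_.True := by simp only [_root_.Cfsg.Agent.N2C.RAlt.row.eq_1]
  try have : _root_.True := by simp only [_root_.Cfsg.Agent.N2C.RAlt.prs.eq_1]
  try have : _root_.True := by simp only [_root_.Cfsg.Agent.N2C.RAlt.okE.eq_1]
  exact _root_.True.intro
end

-- part: N2/Cl/Ten/Main_mg
section

end

-- part: N2/Cl/RD/LinS
section
set_option linter.all false
open scoped Cfsg.Agent.FastGrp

/-!
# N2 (S3519), defining characteristic: Scott's inequality and the lower bound for `dm` (helper38)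
-/

set_option autoImplicit false

namespace Cfsg.Agent.N2C.RD

open Cfsg Cfsg.Geo Subgroup Cfsg.Agent.H915.LD Module Matrix

variable {n : ℕ} {K : Type} [Field K] [Finite K] {P : Subgroup (GL (Fin n) K)}

theorem cA_eq_dm' (u : GL (Fin n) K) : SzG.cA (u : Matrix (Fin n) (Fin n) K) = Nat.card K ^ dm u := by
  rw [← cA_eq_dm]
  exact Nat.card_congr (Equiv.subtypeEquivRight fun X => eq_comm)

theorem gen_of_soc (hC : Core P) {x y : P} (h : closure ({toSoc P x, toSoc P y} : Set (Soc P)) = ⊤) :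
    SzG.Gen ((x : GL (Fin n) K) : Matrix (Fin n) (Fin n) K) (y : GL (Fin n) K) := by
  intro Z hZ hx hy
  have hs : ∀ c : K, c • (1 : Matrix (Fin n) (Fin n) K) ∈ Z := fun c => hZ (Subring.mem_center_iff.2 fun g => by simp)
  let H : Subgroup P :=
    { Submonoid.comap ((Units.coeHom _).comp P.subtype) Z.toSubmonoid with
      inv_mem' := fun {g} hg => by
        have h1 : g⁻¹ = g ^ (orderOf g - 1) := by
          rw [inv_eq_iff_mul_eq_one, ← pow_succ', Nat.sub_add_cancel (orderOf_pos g), pow_orderOf_eq_one]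
        rw [h1]
        exact Submonoid.pow_mem _ hg _ }
  have h1 : H = ⊤ := top_of_soc h hx hy fun g hg => by
    obtain ⟨c, hc⟩ := exists_of_toSoc_eq (a := 1) (b := g) ((map_one _).trans (MonoidHom.mem_ker.1 hg).symm)
    show ((g : GL (Fin n) K) : Matrix (Fin n) (Fin n) K) ∈ Z
    rw [hc]
    exact hs c
  refine eq_top_iff.2 fun M _ => ?_
  have h2 : M ∈ Submodule.span K (matrixSet P) := (H920.span_eq_top hC.absIrred).ge trivial
  induction h2 using Submodule.span_induction with
  | mem M hM =>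
    obtain ⟨g, hg, rfl⟩ := hM
    exact h1.ge (mem_top ⟨g, hg⟩)
  | zero => exact Z.zero_mem
  | add a b _ _ ha hb => exact Z.add_mem (ha trivial) (hb trivial)
  | smul c a _ ha =>
    rw [← Matrix.one_mul a, ← Matrix.smul_mul]
    exact Z.mul_mem (hs c) (ha trivial)

/-- **(d)** Scott -/
theorem scott2 (hC : Core P) {x y : P} (h : closure ({toSoc P x, toSoc P y} : Set (Soc P)) = ⊤) :
    dm (x : GL (Fin n) K) + dm (y : GL (Fin n) K) + dm ((x * y : P) : GL (Fin n) K) ≤ n ^ 2 + 2 := by
  have h2 := SzG.scottM (gen_of_soc hC h)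
  rw [cA_eq_dm', cA_eq_dm', cA_eq_dm', ← pow_add, ← pow_add] at h2
  exact (Nat.pow_le_pow_iff_right Finite.one_lt_card).1 h2

/-- **(d)** the lower bound -/
theorem low {x : P} {a : ℕ} (ha : 0 < a) (e : toSoc P x ^ a = 1) : n ^ 2 ≤ a * dm (x : GL (Fin n) K) := by
  obtain ⟨c, hc⟩ := exists_of_toSoc_eq (a := 1) (b := x ^ a) ((map_one _).trans ((map_pow _ _ _).trans e).symm)
  have h1 := RX.R0.lowM ((x : GL (Fin n) K) : Matrix (Fin n) (Fin n) K) (Polynomial.monic_X_pow_sub_C (c : K) ha.ne') (by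
    rw [map_sub, map_pow, Polynomial.aeval_X, Polynomial.aeval_C, Algebra.algebraMap_eq_smul_one, ← Units.val_pow_eq_pow_val,
      ← coe_pow, hc]
    exact sub_self _)
  rw [Polynomial.natDegree_X_pow_sub_C, cA_eq_dm', ← pow_mul, mul_comm] at h1
  exact (Nat.pow_le_pow_iff_right Finite.one_lt_card).1 h1

end Cfsg.Agent.N2C.RD
end

-- part: N2/Cl/RD/Lnk
section
prune_inst 0x100011221000001800004000000082000420000b0000000000000080000020020640b00001000200000500310000000000000000000000000000011800800000100410000000000080000000000000000000000000000000000000000000000000000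
set_option linter.all false
open scoped Cfsg.Agent.FastGrp

-- part: N2/Cl/Sz/Rad
section
/-!
# N2, size lemma: arbitrary elements of unitary groups (helper96)

`nU_le_rad` : Cayley transform on the Jacobson radical; `size_U_all` : `cU u * q ^ n ≤ q ^ d * (q + 1) ^ n`.
-/

set_option autoImplicit false
set_option linter.unusedSectionVars false
set_option maxHeartbeats 400000

namespace Cfsg.Agent.N2C.Sz

open Cfsg Cfsg.Agent.DS.Cl Cfsg.Agent.DS.Cl.Fwd Cfsg.Agent.SB.Cl Module
open Cfsg.Agent.N2C.Cyc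

section ring

variable {R : Type} [Ring R] [StarRing R] [Finite R]

omit [StarRing R] in
theorem nil_jac {x : R} (hx : x ∈ Ring.jacobson R) : IsNilpotent x := by
  obtain ⟨n, hn⟩ := IsSemiprimaryRing.isNilpotent (R := R)
  have h1 := Ideal.pow_mem_pow hx n
  rw [hn] at h1
  exact ⟨n, h1⟩

theorem star_jac {x : R} (hx : x ∈ Ring.jacobson R) : star x ∈ Ring.jacobson R := by
  rw [← Ideal.jacobson_bot, Ideal.mem_jacobson_iff]
  intro y
  obtain ⟨v, hv⟩ := (nil_jac (Ideal.mul_mem_right (star y) _ hx)).isUnit_add_one.star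
  rw [star_add, star_mul, star_star, star_one] at hv
  exact ⟨(v⁻¹ : Rˣ), by rw [mul_assoc, ← mul_add_one, ← hv, Units.inv_mul, sub_self]; exact Ideal.zero_mem _⟩

/-- the quotient by the radical -/
def QJ (R : Type) [Ring R] : Type := R ⧸ Ring.jacobson R

noncomputable instance QJ.instRing : Ring (QJ R) := inferInstanceAs (Ring (R ⧸ Ring.jacobson R))

/-- the projection -/
def qj (R : Type) [Ring R] : R →+* QJ R := Ideal.Quotient.mk _

omit [StarRing R] [Finite R] in
theorem qj_surj : Function.Surjective (qj R) := Ideal.Quotient.mk_surjective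

omit [StarRing R] [Finite R] in
theorem qj_eq {x y : R} : qj R x = qj R y ↔ x - y ∈ Ring.jacobson R := Ideal.Quotient.eq

instance QJ.instFinite : Finite (QJ R) := Finite.of_surjective _ qj_surj

noncomputable instance QJ.instStarRing : StarRing (QJ R) where
  star := Quotient.map' star fun a b h => (Submodule.quotientRel_def _).2 (by
    rw [← star_sub]; exact star_jac ((Submodule.quotientRel_def _).1 h))
  star_involutive x := Quotient.inductionOn' x fun a => congrArg (qj R) (star_star a)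
  star_mul x y := Quotient.inductionOn₂' x y fun a b => congrArg (qj R) (star_mul a b)
  star_add x y := Quotient.inductionOn₂' x y fun a b => congrArg (qj R) (star_add a b)

theorem star_qj (x : R) : star (qj R x) = qj R (star x) := rfl

omit [StarRing R] [Finite R] in
theorem qj_cen {x : R} (hx : x ∈ Subring.center R) : qj R x ∈ Subring.center (QJ R) := Subring.mem_center_iff.2 fun y => by
  obtain ⟨y, rfl⟩ := qj_surj y
  rw [← map_mul, ← map_mul, cen_comm hx]

/-- **the Cayley transform on the radical** -/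
theorem nU_le_rad {z w : R} (hz : z ∈ Subring.center R) (hw : w ∈ Subring.center R) (h : w * (z - star z) = 1) :
    nU R ^ 2 ≤ Nat.card (Ring.jacobson R) * nU (QJ R) ^ 2 := by
  have h0 : ∀ (B : Type) [Ring B] [StarRing B] [Finite B], nU B = Nat.card (unitary B) := fun B _ _ _ =>
    Nat.card_congr (Equiv.subtypeEquivRight fun x => ⟨fun k => ⟨mul_eq_one_comm.1 k, k⟩, fun k => k.2⟩)
  have hd : z - star z ∈ Subring.center R := Subring.sub_mem _ hz (star_cen hz)
  have hs : star (z - star z) = -(z - star z) := by rw [star_sub, star_star, neg_sub]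
  have hs' : star w = -w := by
    have h1 := congrArg star h
    rw [star_mul, hs, star_one, neg_mul, neg_eq_iff_eq_neg] at h1
    rw [← one_mul (star w), ← h, mul_assoc, h1, mul_neg, mul_one]
  obtain ⟨c, hc, h1⟩ : ∃ c ∈ Subring.center R, c + star c = 1 := ⟨w * z, Subring.mul_mem _ hw hz, by
    rw [star_mul, hs', mul_neg, cen_comm hw (star z), ← sub_eq_add_neg, ← mul_sub, h]⟩
  let π : unitary R →* unitary (QJ R) :=
    { toFun := fun x => ⟨qj R x, by rw [star_qj, ← map_mul, x.2.1, map_one], by rw [star_qj, ← map_mul, x.2.2, map_one]⟩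
      map_one' := Subtype.ext (map_one _)
      map_mul' := fun a b => Subtype.ext (map_mul _ _ _) }
  have h2 : Nat.card π.ker ≤ Nat.card {s : R // s ∈ Ring.jacobson R ∧ star s = -s} := by
    have h3 : ∀ x : π.ker, (x.1 : R) - 1 ∈ Ring.jacobson R := fun x => qj_eq.1 ((congrArg Subtype.val x.2).trans (map_one _).symm)
    have h4 : ∀ x : π.ker, ∃ v : Rˣ, (v : R) = c * x.1 + star c := fun x => by
      have h5 := (nil_jac (Ideal.mul_mem_left _ c (h3 x))).isUnit_add_one
      rwa [mul_sub, mul_one, ← h1, ← add_assoc, sub_add_cancel] at h5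
    choose v hv using h4
    refine Nat.card_le_card_of_injective (fun x => ⟨(x.1 - 1) * (v x)⁻¹, Ideal.mul_mem_right _ _ (h3 x), ?_⟩) fun x y e => ?_
    · have h5 : ∀ {c : R}, c ∈ Subring.center R → star (x.1 : R) * c * x.1 = c := fun k => by
        rw [cen_comm k, mul_assoc, x.1.2.1, mul_one]
      rw [eq_neg_iff_add_eq_zero, ← (v x).isUnit.star.mul_right_eq_zero, ← (v x).isUnit.mul_left_eq_zero, mul_add, add_mul, ← star_mul,
        Units.inv_mul_cancel_right, mul_assoc (star (v x : R)), Units.inv_mul_cancel_right, hv, star_sub, star_one, star_add, star_mul, star_star,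
        show ∀ a b c d : R, (b - 1) * (c * a + d) + (b * d + c) * (a - 1) = b * c * a - c + (b * d * a - d) from
          fun _ _ _ _ => by noncomm_ring, h5 hc, h5 (star_cen hc), sub_self, sub_self, add_zero]
    · have h5 := Subtype.mk.inj e
      have h6 := (nil_jac (Ideal.mul_mem_right c _ (Ideal.mul_mem_right (((v y)⁻¹ : Rˣ) : R) _ (h3 y)))).isUnit_one_sub
      have h7 := Units.inv_mul_cancel_right ((x.1 : R) - 1) (v x)
      have h8 := Units.inv_mul_cancel_right ((y.1 : R) - 1) (v y)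
      rw [h5, hv] at h7
      rw [hv] at h8
      refine Subtype.ext (Subtype.ext (sub_eq_zero.1 (h6.mul_right_eq_zero.1 ?_)))
      rw [show ∀ s c d x y : R, (1 - s * c) * (x - y) = (s * (c * y + d) - (y - 1)) - (s * (c * x + d) - (x - 1)) from
        fun _ _ _ _ _ => by noncomm_ring, h7, h8, sub_self, sub_self, sub_self]
  have h3 : Nat.card {s : R // s ∈ Ring.jacobson R ∧ star s = -s} ^ 2 ≤ Nat.card (Ring.jacobson R) := by
    rw [sq, ← Nat.card_prod]
    refine Nat.card_le_card_of_injective (fun s => ⟨c * s.1.1 + (z - star z) * s.2.1,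
      Ideal.add_mem _ (Ideal.mul_mem_left _ _ s.1.2.1) (Ideal.mul_mem_left _ _ s.2.2.1)⟩) fun s t e => ?_
    have h4 : ∀ {a b : R}, star a = -a → star b = -b → c * a + (z - star z) * b - star (c * a + (z - star z) * b) = a := fun {a b} ha hb => by
      rw [star_add, star_mul, star_mul, ha, hb, hs, neg_mul_neg, cen_comm hd b, add_sub_add_right_eq_sub, neg_mul, cen_comm (star_cen hc),
        sub_neg_eq_add, ← add_mul, h1, one_mul]
    have h5 := Subtype.mk.inj e
    have h6 : s.1.1 = t.1.1 := by rw [← h4 s.1.2.2 s.2.2.2, h5, h4 t.1.2.2 t.2.2.2]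
    rw [h6, add_right_inj] at h5
    exact Prod.ext (Subtype.ext h6) (Subtype.ext (by rw [← one_mul s.2.1, ← h, mul_assoc, h5, ← mul_assoc, h, one_mul]))
  rw [h0, h0, ← π.ker.index_mul_card, Subgroup.index_ker, mul_pow, mul_comm]
  exact Nat.mul_le_mul ((Nat.pow_le_pow_left h2 2).trans h3) (Nat.pow_le_pow_left (Subgroup.card_le_card_group _) 2)

omit [StarRing R] [Finite R] in
theorem card_QJ : Nat.card (QJ R) * Nat.card (Ring.jacobson R) = Nat.card R :=
  (AddSubgroup.card_eq_card_quotient_mul_card_addSubgroup (Ring.jacobson R).toAddSubgroup).symm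

/-- orthogonal idempotents below `f` -/
def OI (f : R) (D : Finset R) : Prop := ∀ x ∈ D, x ≠ 0 ∧ x * x = x ∧ f * x = x ∧ ∀ y ∈ D, x ≠ y → x * y = 0

open Classical in
/-- the largest number of orthogonal idempotents below `f` -/
noncomputable def ni (f : R) : ℕ := (@Finset.univ _ (Fintype.ofFinite (Finset R))).filter (OI f) |>.sup Finset.card

omit [StarRing R] in
theorem le_ni {f : R} {D : Finset R} (h : OI f D) : D.card ≤ ni f := by
  classical
  exact Finset.le_sup (f := Finset.card) (Finset.mem_filter.2 ⟨@Finset.mem_univ _ (Fintype.ofFinite _) _, h⟩)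

omit [StarRing R] in
theorem exists_ni (f : R) : ∃ D, OI f D ∧ ni f = D.card := by
  classical
  obtain ⟨D, h1, h2⟩ := Finset.exists_mem_eq_sup ((@Finset.univ _ (Fintype.ofFinite (Finset R))).filter (OI f))
    ⟨∅, Finset.mem_filter.2 ⟨@Finset.mem_univ _ (Fintype.ofFinite _) _, fun _ h => absurd h (Finset.notMem_empty _)⟩⟩ Finset.card
  exact ⟨D, (Finset.mem_filter.1 h1).2, h2⟩

theorem ni_add {f g : R} (hf : CI 1 f) (hg : CI 1 g) (h : f * g = 0) : ni f + ni g ≤ ni (f + g) := by
  classical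
  obtain ⟨D, h1, e1⟩ := exists_ni f
  obtain ⟨E, h2, e2⟩ := exists_ni g
  have h' : g * f = 0 := by rw [← hf.cen g hg.comm, h]
  have h3 : ∀ {f g x : R}, f * g = 0 → g * x = x → f * x = 0 := fun k k' => by rw [← k', ← mul_assoc, k, zero_mul]
  have h4 : ∀ {f g x y : R}, CI 1 f → f * g = 0 → f * x = x → g * y = y → x * y = 0 := fun {f g x y} hf k k1 k2 => by
    rw [← k1, hf.cen x (by simp), mul_assoc, h3 k k2, mul_zero]
  rw [e1, e2, ← Finset.card_union_of_disjoint (Finset.disjoint_left.2 fun x k k' =>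
    (h1 x k).1 ((h1 x k).2.2.1.symm.trans (h3 h (h2 x k').2.2.1)))]
  refine le_ni fun x hx => ?_
  rcases Finset.mem_union.1 hx with k | k
  · refine ⟨(h1 x k).1, (h1 x k).2.1, by rw [add_mul, (h1 x k).2.2.1, h3 h' (h1 x k).2.2.1, add_zero], fun y hy t => ?_⟩
    exact (Finset.mem_union.1 hy).elim (fun k' => (h1 x k).2.2.2 y k' t) fun k' => h4 hf h (h1 x k).2.2.1 (h2 y k').2.2.1
  · refine ⟨(h2 x k).1, (h2 x k).2.1, by rw [add_mul, (h2 x k).2.2.1, h3 h (h2 x k).2.2.1, zero_add], fun y hy t => ?_⟩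
    exact (Finset.mem_union.1 hy).elim (fun k' => h4 hg h' (h2 x k).2.2.1 (h1 y k').2.2.1) fun k' => (h2 x k).2.2.2 y k' t

/-- **unitary groups of arbitrary finite rings** over a field of `q ^ 2` elements -/
theorem nU_le_gen {K : Type} [Field K] [Fintype K] {q n : ℕ} (hq : Fintype.card K = q ^ 2) (κ : K →+* R) (τ : K → K)
    (hκ : ∀ c, κ c ∈ Subring.center R) (hτ : ∀ c, star (κ c) = κ (τ c)) {c : K} (hc : τ c ≠ c)
    (hn : ∀ (I : Type) [Fintype I] (e : I → R), OrthogonalIdempotents e → (∀ i, e i ≠ 0) → Fintype.card I ≤ n) :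
    (nU R : ℚ) ^ 2 ≤ ((((q : ℚ) + 1) / q) ^ n) ^ 2 * Nat.card R := by
  have hq0 : 0 < q := Nat.pos_of_ne_zero fun k => by simp [k] at hq
  have hb := one_le_fr hq0
  have h1 : κ (c - τ c)⁻¹ * (κ c - star (κ c)) = 1 := by
    rw [hτ, ← map_sub, ← map_mul, inv_mul_cancel₀ (sub_ne_zero.2 hc.symm), map_one]
  have : IsSemisimpleRing (QJ R) := inferInstanceAs (IsSemisimpleRing (R ⧸ Ring.jacobson R))
  have hu : (1 : QJ R) * star 1 = 1 := by simp
  have h2 := abs_gen hu (fun _ => ss_blk' hu (one_pow 1) fun N k => ⟨1, by rw [Nat.dvd_one.1 k, one_smul, one_smul]⟩)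
    ((qj R).comp κ) τ (fun c => qj_cen (hκ c)) (fun c => (star_qj _).trans (congrArg _ (hτ c))) (z := qj R (κ c)) (w := qj R (κ (c - τ c)⁻¹))
    (e := 1) (fun x _ => (cen_comm (qj_cen (hκ c)) x).symm) (by simp) (by rw [star_qj, ← map_sub, ← map_mul, h1, map_one])
    (fun f => ((((q : ℚ) + 1) / q) ^ ni f * 1 ^ 0) ^ 2) (fun f => one_le_pow₀ (by simpa using one_le_pow₀ hb))
    (fun f g hf hg k => pot_mul hb le_rfl (ni_add hf hg k) le_rfl) (fun f hf h0 _ Q j k1 k2 _ => ?_) (CI.one 1) (CI.one 1) (one_mul 1)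
  · obtain ⟨D, h3, h4⟩ := exists_ni (1 : QJ R)
    obtain ⟨e, h5, h6⟩ := OrthogonalIdempotents.lift_of_isNilpotent_ker (qj R) (fun x hx => nil_jac (by simpa using qj_eq.1 (hx.trans (map_zero _).symm)))
      (e := fun x : D => x.1) ⟨fun x => (h3 x x.2).2.1, fun x y k => (h3 x x.2).2.2.2 y y.2 fun t => k (Subtype.ext t)⟩ fun x => qj_surj x.1
    have h7 := hn D e h5 fun x k => (h3 x x.2).1 ((congrFun h6 x).symm.trans (by rw [Function.comp_apply, k, map_zero]))
    rw [Fintype.card_coe, ← h4] at h7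
    rw [show pU (1 : QJ R) 1 = nU (QJ R) from Nat.card_congr (Equiv.subtypeEquivRight fun x => by simp),
      show pA (1 : QJ R) 1 = Nat.card (QJ R) from Nat.card_congr (Equiv.subtypeUnivEquiv fun x => by simp), pow_zero, mul_one] at h2
    calc (nU R : ℚ) ^ 2 ≤ Nat.card (Ring.jacobson R) * (nU (QJ R) : ℚ) ^ 2 := by exact_mod_cast nU_le_rad (hκ c) (hκ _) h1
      _ ≤ Nat.card (Ring.jacobson R) * (((((q : ℚ) + 1) / q) ^ n) ^ 2 * Nat.card (QJ R)) := by
        gcongr
        exact h2.trans (by gcongr)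
      _ = _ := by rw [← card_QJ (R := R)]; push_cast; ring
  obtain rfl : Q = q ^ j := Nat.pow_left_injective two_ne_zero (by simp only [k1, hq, ← pow_mul, mul_comm])
  refine pay hq0 (Nat.le_self_pow (by rintro rfl; exact hc (by simpa using k2 c)) q) ?_
  rw [pow_zero, mul_one]
  exact le_self_pow₀ hb (Nat.one_le_iff_ne_zero.1 (le_ni (D := {f}) fun x hx => by
    obtain rfl := Finset.mem_singleton.1 hx
    exact ⟨h0, hf.idem, hf.idem, fun y hy t => absurd (Finset.mem_singleton.1 hy).symm t⟩))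

end ring

variable {K V : Type} [Field K] [Fintype K] [AddCommGroup V] [Module K V] [Finite V] {h : HF K V}

theorem card_le_of_orth {I : Type} [Fintype I] (e : I → End K V) (h1 : ∀ i, e i * e i = e i) (h2 : ∀ i j, i ≠ j → e i * e j = 0)
    (h3 : ∀ i, e i ≠ 0) : Fintype.card I ≤ finrank K V := by
  choose v hv using fun i => DFunLike.ne_iff.1 (h3 i)
  refine LinearIndependent.fintype_card_le_finrank (b := fun i => e i (v i)) (Fintype.linearIndependent_iff.2 fun g hg j => ?_)
  have h4 := congrArg (e j) hg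
  rw [map_sum, map_zero, Finset.sum_eq_single j (fun i _ k => by rw [map_smul, ← End.mul_apply, h2 j i k.symm]; exact smul_zero _)
    (fun k => absurd (Finset.mem_univ j) k), map_smul, ← End.mul_apply, h1] at h4
  exact (smul_eq_zero.1 h4).resolve_right (hv j)

/-- **unitary groups, arbitrary elements** -/
theorem size_U_all (hU : IsU h) {q : ℕ} (hq : Fintype.card K = q ^ 2) {u : h.EB} (hu : u * star u = 1) {d : ℕ}
    (hd : cA u = Fintype.card K ^ d) : cU u * q ^ finrank K V ≤ q ^ d * (q + 1) ^ finrank K V := by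
  have hq0 : 0 < q := Nat.pos_of_ne_zero fun k => by simp [k] at hq
  obtain ⟨c, hc⟩ := hU.2
  have hκ : ∀ c, sc h c ∈ Subring.center h.EB := fun c => sc_eq (h := h) c ▸ h.smul_mem_center c
  have h1 := nU_le_gen (n := finrank K V) hq (kap hu (CI.one u) (sc h) hκ) h.τ (kap_cen hu _ hκ)
    (fun c => kap_star hu _ hκ (by rw [sc_eq, sc_eq, sc_star])) hc fun I _ e he h0 =>
      card_le_of_orth (fun i => h.ap ((blk hu (CI.one u)).val (e i))) (fun i => congrArg (blk hu (CI.one u)).val (he.idem i))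
        (fun i j k => congrArg (blk hu (CI.one u)).val (he.ortho k)) fun i k => h0 i ((blk hu (CI.one u)).val_inj k)
  rw [nU_blk, card_blk, pU_one, pA_one, hd, hq, ← pow_mul q, pow_mul' q] at h1
  simpa using fin_le (ν := finrank K V) (δ := 0) (b := 0) hq0 hq0 le_rfl le_rfl (by rw [pow_zero, mul_one]; exact h1)

end Cfsg.Agent.N2C.Sz
end

-- part: N2/Cl/Sz/Ss
section
/-!
# N2, size lemma: elements of order prime to the characteristic, bilinear forms (helper96)

`ss_Sp`, `ss_O` : `cO F u * q ^ (n / 2) ≤ c * q ^ ((d ± a) / 2) * (q + 1) ^ (n / 2)`, `a` the multiplicity of the eigenvalues `± 1`.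
-/

set_option autoImplicit false
set_option linter.unusedSectionVars false
set_option maxHeartbeats 400000

namespace Cfsg.Agent.N2C.Sz

open Cfsg Cfsg.Agent.DS.Cl Cfsg.Agent.DS.Cl.Fwd Cfsg.Agent.SB.Cl Module
open Cfsg.Agent.N2C.Cyc
open Cfsg.Agent.LieClassical.OrthCore (O Nondeg)

theorem up_le {x y q a b : ℕ} (h : x * q ^ a ≤ y * (q + 1) ^ a) (k : a ≤ b) : x * q ^ b ≤ y * (q + 1) ^ b := by
  obtain ⟨c, rfl⟩ := Nat.exists_eq_add_of_le k
  rw [pow_add, pow_add, ← mul_assoc, ← mul_assoc]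
  exact Nat.mul_le_mul h (Nat.pow_le_pow_left (Nat.le_succ q) c)

theorem card_sq {T K : Type} [Ring T] [StarRing T] [Finite T] [Field K] [Fintype K] (κ : K →+* T) (hκ : ∀ c, κ c ∈ Subring.center T)
    (hs : ∀ c, star (κ c) = κ c) {z w : T} (hz : z ∈ Subring.center T) (h : w * (z - star z) = 1) :
    ∃ s, Nat.card T = (Fintype.card K ^ s) ^ 2 := by
  have hs' : star w = -w := by
    have h1 := congrArg star h
    rw [star_mul, star_sub, star_star, ← neg_sub, star_one, neg_mul, neg_eq_iff_eq_neg] at h1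
    rw [← one_mul (star w), ← h, mul_assoc, h1, mul_neg, mul_one]
  let F : FR T := ⟨w * z, Lmax T, by rw [star_mul, hs', mul_neg, ← cen_comm (star_cen hz), ← sub_eq_add_neg, ← mul_sub, h], Or.inr rfl⟩
  let _ : Module K T := Module.compHom T κ
  let S : Submodule K T := { Lmax T with
    smul_mem' := fun c x (hx : star x = -x) => show star (κ c * x) = -(κ c * x) by rw [star_mul, hs, hx, neg_mul, cen_comm (hκ c)] }
  exact ⟨finrank K S, by rw [← card_L_sq F hz h, ← Nat.card_eq_fintype_card, ← Module.natCard_eq_pow_finrank]; rfl⟩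

theorem CI.add {A : Type} [Ring A] [StarRing A] {u e f : A} (he : CI u e) (hf : CI u f) (h : e * f = 0) : CI u (e + f) :=
  ⟨by rw [add_mul, mul_add, mul_add, he.idem, hf.idem, h, ← he.cen f (hf.cen u rfl), h, add_zero, zero_add],
    by rw [star_add, he.st, hf.st], fun x hx => by rw [add_mul, mul_add, he.cen x hx, hf.cen x hx]⟩

theorem CI.zero {A : Type} [Ring A] [StarRing A] (u : A) : CI u 0 := ⟨mul_zero _, star_zero _, fun _ _ => by rw [zero_mul, mul_zero]⟩

theorem cast_ne {K : Type} [Field K] {p k : ℕ} (hp : p.Prime) [CharP K p] (h : k.Coprime p) : (k : K) ≠ 0 := fun t =>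
  hp.coprime_iff_not_dvd.1 h.symm ((CharP.cast_eq_zero_iff K p _).1 t)

variable {K V : Type} [Field K] [Fintype K] [AddCommGroup V] [Module K V] [Finite V] {h : HF K V}

section

variable {u e f : h.EB}

theorem ap_rg (he : CI u e) {v : V} (hv : v ∈ LinearMap.range (h.ap e)) : h.ap e v = v := by
  obtain ⟨x, rfl⟩ := hv
  rw [← h.ap_mul, he.idem]

theorem rk_add (he : CI u e) (hf : CI u f) (k : e * f = 0) : rk h e + rk h f ≤ rk h (e + f) := by
  have k' : f * e = 0 := by rw [← he.cen f hf.comm, k]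
  rw [rk, rk, ← Submodule.finrank_sup_add_finrank_inf_eq, show LinearMap.range (h.ap e) ⊓ LinearMap.range (h.ap f) = ⊥ from
    eq_bot_iff.2 fun v hv => (by rw [← ap_rg he hv.1, ← ap_rg hf hv.2, ← h.ap_mul, k]; rfl : v = 0), finrank_bot, add_zero]
  refine Submodule.finrank_mono (sup_le (fun v hv => ⟨v, ?_⟩) fun v hv => ⟨v, ?_⟩)
  · rw [← ap_rg he hv, ← h.ap_mul, add_mul, he.idem, k', add_zero]
  · rw [← ap_rg hf hv, ← h.ap_mul, add_mul, hf.idem, k, zero_add]

theorem nd_rg (he : CI u e) : ∀ v ∈ LinearMap.range (h.ap e), (∀ w ∈ LinearMap.range (h.ap e), h.b w v = 0) → v = 0 := fun v hv H =>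
  h.nondeg v fun y => by
    rw [← ap_rg he hv, ← he.st, h.b_star]
    exact H _ ⟨y, rfl⟩

/-- the restriction to the image -/
noncomputable def rs (he : CI u e) (x : h.EBˣ) (hx : (x : h.EB) * u = u * x) : LinearMap.range (h.ap e) ≃ₗ[K] LinearMap.range (h.ap e) :=
  LinearEquiv.ofInjectiveEndo ((h.ap x).restrict fun v hv => ⟨h.ap x v, by rw [← h.ap_mul, he.cen _ hx, h.ap_mul, ap_rg he hv]⟩)
    fun _ _ k => Subtype.ext ((unE h x).injective (congrArg Subtype.val k))

theorem rs_eq (he : CI u e) {x y : h.EBˣ} {hx : (x : h.EB) * u = u * x} {hy : (y : h.EB) * u = u * y} (k : rs he x hx = rs he y hy) :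
    x * e = y * e := h.ap_ext fun v => by
  exact congrArg Subtype.val (DFunLike.congr_fun k ⟨h.ap e v, v, rfl⟩)

theorem two_le_rk (hτ : ∀ c, h.τ c = c) (hf : CI u f) (k : (u - star u) * f ≠ 0) : 2 ≤ rk h f := by
  by_contra t
  obtain ⟨v, hv⟩ := finrank_le_one_iff.1 (Nat.le_of_lt_succ (not_le.1 t))
  have h1 : ∀ x, ∃ c : K, h.ap f x = c • (v : V) := fun x => (hv ⟨_, x, rfl⟩).imp fun c k => (congrArg Subtype.val k).symm
  obtain ⟨a, ha⟩ := h1 (h.ap u v)
  rw [← h.ap_mul, hf.comm, h.ap_mul, ap_rg hf v.2] at ha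
  refine k (h.ap_ext fun x => h.nondeg _ fun y => ?_)
  obtain ⟨c, hc⟩ := h1 x
  obtain ⟨d, hd⟩ := h1 y
  have h2 : star u * f = f * star u := by simpa only [star_mul, hf.st] using congrArg star hf.comm
  rw [← hf.idem, ← mul_assoc, sub_mul, ← hf.comm, h2, ← mul_sub, mul_assoc, h.ap_mul, ← hf.st, h.b_star, hf.st, h.ap_mul, h.ap_sub,
    h.sub_right, h.b_star, hc, hd, map_smul, map_smul, ha]
  simp only [h.smul_left, h.smul_right, hτ]
  ring

theorem exists_w' (hu : u * star u = 1) (he : CI u e) (h2 : e * (u - star u) = 0)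
    (h1 : ∀ v, h.ap e v = 0 → h.ap u (h.ap u v) = v → v = 0) : ∃ w, w * u = u * w ∧ w * (u - star u) = 1 - e := by
  have hu' := mul_eq_one_comm.1 hu
  obtain ⟨δ, hδ⟩ : IsUnit (u - star u + e) := (LinearMap.isUnit_iff_ker_eq_bot (h.ap _)).2 (LinearMap.ker_eq_bot'.2 fun v hv => by
    have h3 : h.ap e v = 0 := by
      have h4 := congrArg (h.ap e) hv
      rwa [← h.ap_mul, mul_add, h2, zero_add, he.idem, map_zero] at h4
    rw [h.ap_add, h3, add_zero, h.ap_sub, sub_eq_zero] at hv
    exact h1 v h3 (by rw [hv, ← h.ap_mul, hu, h.ap_one]))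
  have h3 : Commute u (δ : h.EB) := by
    rw [hδ]
    exact ((Commute.refl u).sub_right (hu.trans hu'.symm)).add_right he.comm.symm
  refine ⟨(δ⁻¹ : h.EBˣ) * (1 - e), (h3.units_inv_right.mul_right ((Commute.one_right u).sub_right he.comm.symm)).symm, ?_⟩
  rw [mul_assoc, Units.inv_mul_eq_iff_eq_mul, hδ, sub_mul, one_mul, h2, sub_zero, add_mul, mul_sub _ 1, mul_sub _ 1, mul_one, mul_one,
    he.idem, sub_self, add_zero, ← he.cen _ ((Commute.refl u).sub_left (hu'.trans hu.symm)), h2, sub_zero]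

variable [Nontrivial V] {m : ℕ}

/-- the part without the eigenvalues `± 1` -/
theorem rest (hτ : ∀ c, h.τ c = c) (hm : (m : K) ≠ 0) (hu : u * star u = 1) (hp : u ^ m = 1) (he : CI u e) {w : h.EB}
    (hw : w * u = u * w) (hw' : w * (u - star u) = e) : ∃ s, pA u e = (Fintype.card K ^ s) ^ 2 ∧
      pU u e * Fintype.card K ^ (rk h e / 2) ≤ Fintype.card K ^ s * (Fintype.card K + 1) ^ (rk h e / 2) := by
  have hq0 : 0 < Fintype.card K := Fintype.card_pos
  have hb := one_le_fr hq0
  have hκ : ∀ c, sc h c ∈ Subring.center h.EB := fun c => sc_eq (h := h) c ▸ h.smul_mem_center c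
  have hs : ∀ c, star (sc h c) = sc h (h.τ c) := fun c => by rw [sc_eq, sc_eq, sc_star]
  obtain ⟨s, hs'⟩ := card_sq (kap hu he (sc h) hκ) (kap_cen hu he hκ) (fun c => kap_star hu he hκ ((hs c).trans (by rw [hτ])))
    (cen_blk hu he fun _ hy => hy.symm) (unit_blk hu he rfl hw (by rw [hw', he.idem]))
  rw [card_blk] at hs'
  have h3 := abs_main h.ss hu hp (natCast_ne hm) (sc h) h.τ hκ hs (z := u) (fun x hx => hx.symm) hw hw'
    (fun f => ((((Fintype.card K : ℚ) + 1) / Fintype.card K) ^ (rk h f / 2) * (((Fintype.card K : ℚ) + 1) / Fintype.card K) ^ 0) ^ 2)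
    (fun f => one_le_pow₀ (one_le_mul_of_one_le_of_one_le (one_le_pow₀ hb) (one_le_pow₀ hb)))
    (fun f g hf hg k => pot_mul hb hb (by have := rk_add hf hg k; omega) le_rfl) (fun f hf h0 hef Q j k1 k2 k3 => ?_) he he he.idem
  · rw [hs'] at h3
    exact ⟨s, hs', by simpa using fin_le (δ := 0) hq0 hq0 le_rfl le_rfl h3⟩
  have h4 : (u - star u) * f ≠ 0 := fun t => h0 (by rw [← hef, ← hw', mul_assoc, t, mul_zero])
  obtain ⟨k, rfl⟩ := root_bil k1 fun c => (hτ c).symm.trans (k2 c)
  refine pay hq0 (Nat.le_self_pow ?_ _) ?_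
  · rintro rfl
    rw [pow_zero, ← two_mul, mul_one, sq] at k3
    refine h4 ?_
    rw [sub_mul, sub_eq_zero, ← congrArg (star u * ·) k3, ← mul_assoc, ← mul_assoc, mul_eq_one_comm.1 hu, one_mul]
  · rw [pow_zero, mul_one]
    exact le_self_pow₀ hb (by have := two_le_rk hτ hf h4; omega)

/-- the eigenspaces for `± 1` -/
theorem exists_dec {p : ℕ} (hp' : p.Prime) [CharP K p] (hm : m.Coprime p) (hu : u * star u = 1) (hp : u ^ m = 1) :
    ∃ e f w : h.EB, CI u e ∧ CI u f ∧ e * f = 0 ∧ Fintype.card K ^ (rk h e ^ 2) ≤ pA u e ∧ Fintype.card K ^ (rk h f ^ 2) ≤ pA u f ∧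
      w * u = u * w ∧ w * (u - star u) = 1 - (e + f) ∧ rk h e + rk h f = if p = 2 then finrank K (LinearMap.ker (h.ap u - 1)) else
        finrank K (LinearMap.ker (h.ap u - 1)) + finrank K (LinearMap.ker (h.ap (-u) - 1)) := by
  have h0 : ∀ {k : ℕ}, k.Coprime p → (k : K) ≠ 0 := cast_ne hp'
  have h1 : ∀ {k : ℕ} {x : h.EB}, (k : K) ≠ 0 → x ^ k = 1 → rk h (e0 h k x) = finrank K (LinearMap.ker (h.ap x - 1)) := fun a b => by
    rw [rk, (e0_proj a b).range]
  split_ifs with t
  · obtain ⟨w, h2, h3⟩ := exists_w (h0 hm) hu hp (Nat.coprime_two_right.1 (t ▸ hm))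
    have h4 : rk h 0 = 0 := by rw [rk, show h.ap 0 = 0 from rfl, LinearMap.range_zero, finrank_bot]
    exact ⟨_, 0, w, e0_ci (h0 hm) hu hp, CI.zero u, mul_zero _, h1 (h0 hm) hp ▸ le_pA_e0 (h0 hm) hp, h4 ▸ pA_pos u 0, h2,
      by rw [add_zero, h3], by rw [h4, h1 (h0 hm) hp, add_zero]⟩
  have h2 := h0 ((Nat.coprime_primes Nat.prime_two hp').2 (Ne.symm t))
  have h3 : ((2 * m : ℕ) : K) ≠ 0 := by rw [Nat.cast_mul]; exact mul_ne_zero h2 (h0 hm)
  have h4 : u ^ (2 * m) = 1 := by rw [pow_mul', hp, one_pow]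
  have h5 : (-u) ^ (2 * m) = 1 := by rw [(even_two_mul m).neg_pow, h4]
  have h6 : -u * star (-u) = 1 := by rw [star_neg, neg_mul_neg, hu]
  have he := e0_ci h3 hu h4
  have hf' := e0_ci h3 h6 h5
  have hf : CI u (e0 h (2 * m) (-u)) := ⟨hf'.1, hf'.2, fun x hx => hf'.3 x (by rw [mul_neg, neg_mul, hx])⟩
  have h7 : ∀ {v : V}, v + v = 0 → v = 0 := fun k => (smul_eq_zero.1 ((Nat.cast_smul_eq_nsmul K 2 _).trans ((two_nsmul _).trans k))).resolve_left h2
  have h8 := he.comm.trans (mul_e0 h4)
  have h9 := hf'.comm.trans (mul_e0 h5)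
  have h10 : e0 h (2 * m) u * e0 h (2 * m) (-u) = 0 := h.ap_ext fun v => h7 (by
    have k := congrArg (e0 h (2 * m) u * ·) (mul_e0 h5)
    simp only [← mul_assoc, mul_neg, h8, neg_mul] at k
    rw [← h.ap_add, neg_eq_iff_add_eq_zero.1 k]
    rfl)
  have h11 : ∀ {e x : h.EB}, e * x = e → x * star x = 1 → e * (x - star x) = 0 := fun {e x} a b => by
    rw [mul_sub, ← a, mul_assoc _ x (star x), b, mul_one, a, a, sub_self]
  obtain ⟨w, k1, k2⟩ := exists_w' hu (he.add hf h10) (by
    rw [add_mul, h11 h8 hu, zero_add, ← neg_eq_zero, ← mul_neg, ← h11 h9 h6, star_neg, neg_sub, neg_sub_neg]) fun v a b => by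
      have k1 : ∀ {x y : h.EB}, CI u x → x * (e0 h (2 * m) u + e0 h (2 * m) (-u)) = x → (y = u ∨ y = -u) → h.ap x (v + h.ap y v) = 0 := by
        intro x y c d t
        have k2 : h.ap x v = 0 := by rw [← d, h.ap_mul, a, map_zero]
        rw [map_add, k2, zero_add, ← h.ap_mul, c.cen y (by rcases t with rfl | rfl <;> simp), h.ap_mul, k2, map_zero]
      have k2 := k1 he (by rw [mul_add, he.idem, h10, add_zero]) (Or.inl rfl)
      have k3 := k1 hf (by rw [mul_add, hf.idem, ← he.cen _ hf.comm, h10, zero_add]) (Or.inr rfl)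
      rw [(e0_proj h3 h4).map_id _ (sub_eq_zero.2 (by rw [map_add, b, add_comm]; rfl))] at k2
      rw [(e0_proj h3 h5).map_id _ (sub_eq_zero.2 (by
        show -h.ap u (v + -h.ap u v) = v + -h.ap u v
        rw [map_add, map_neg, b, neg_add, neg_neg, add_comm]))] at k3
      exact h7 (by rw [← add_zero (v + v), ← add_neg_cancel (h.ap u v), add_add_add_comm, k2, zero_add]; exact k3.trans (add_neg_cancel _).symm)
  refine ⟨_, _, w, he, hf, h10, h1 h3 h4 ▸ le_pA_e0 h3 h4, h1 h3 h5 ▸ (le_pA_e0 h3 h5).trans_eq ?_, k1, k2, by rw [h1 h3 h4, h1 h3 h5]⟩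
  exact Nat.card_congr (Equiv.subtypeEquivRight fun x => by rw [mul_neg, neg_mul, neg_inj])

end

variable [Nontrivial V] {m p : ℕ}

/-- reduction to the eigenspaces for `± 1` -/
theorem ss_bil (hτ : ∀ c, h.τ c = c) (hp' : p.Prime) [CharP K p] (hm : m.Coprime p) (F : FR h.EB) {u : h.EBˣ} (hu : u ∈ F.Iso)
    (hp : u ^ m = 1) {d : ℕ} (hd : cA (u : h.EB) = Fintype.card K ^ d) :
    ∃ (e f : h.EB) (he : CI (u : h.EB) e) (hf : CI (u : h.EB) f) (s ν : ℕ), rk h e ^ 2 + rk h f ^ 2 + 2 * s ≤ d ∧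
      rk h e + rk h f + 2 * ν ≤ finrank K V ∧ (rk h e + rk h f = if p = 2 then finrank K (LinearMap.ker (h.ap u - 1)) else
        finrank K (LinearMap.ker (h.ap u - 1)) + finrank K (LinearMap.ker (h.ap (-u) - 1))) ∧
      ∀ (X : Subgroup _) (Y : Subgroup _), (∀ x ∈ F.Iso, ∀ hx, rs he x hx ∈ X ∧ rs hf x hx ∈ Y) →
        cO F u * Fintype.card K ^ ν ≤ Nat.card X * Nat.card Y * Fintype.card K ^ s * (Fintype.card K + 1) ^ ν := by
  have hp2 : (u : h.EB) ^ m = 1 := by rw [← Units.val_pow_eq_pow_val, hp, Units.val_one]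
  obtain ⟨e, f, w, he, hf, h1, h2, h3, h4, h5, h6⟩ := exists_dec hp' hm hu.1 hp2
  have h0 := he.add hf h1
  have h0' := (CI.one _).sub h0 (one_mul _)
  have h7 := (CI.one _).orth h0 (one_mul _)
  obtain ⟨s, k1, k2⟩ := rest hτ (cast_ne hp' hm) hu.1 hp2 h0' h4 h5
  refine ⟨e, f, he, hf, s, _, ?_, ?_, h6, fun X Y k => le_trans (Nat.mul_le_mul_right _ ?_)
    (((mul_assoc _ _ _).trans_le (Nat.mul_le_mul_left (Nat.card X * Nat.card Y) k2)).trans_eq (mul_assoc _ _ _).symm)⟩
  · have h8 := (Nat.mul_le_mul_right _ ((Nat.mul_le_mul h2 h3).trans (pA_add he hf h1))).trans (pA_add h0 h0' h7)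
    rwa [add_sub_cancel, pA_one, hd, k1, ← pow_mul', ← pow_add, ← pow_add, Nat.pow_le_pow_iff_right Fintype.one_lt_card] at h8
  · have h8 := rk_add he hf h1
    have h9 := (rk_add h0 h0' h7).trans (Submodule.finrank_le _)
    omega
  · have : ∀ e : h.EB, Finite (LinearMap.range (h.ap e) ≃ₗ[K] LinearMap.range (h.ap e)) := fun _ =>
      Finite.of_injective _ DFunLike.coe_injective
    rw [cO, pU, ← Nat.card_prod, ← Nat.card_prod]
    refine Nat.card_le_card_of_injective (fun x => ((⟨_, (k _ x.2.1 (congrArg Units.val x.2.2)).1⟩, ⟨_, (k _ x.2.1 (congrArg Units.val x.2.2)).2⟩),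
      ⟨(1 - (e + f)) * x.1, ⟨h0'.mul_comm' (congrArg Units.val x.2.2), by rw [← mul_assoc, h0'.idem]⟩,
        h0'.uni (by rw [x.2.1.1, mul_one])⟩)) fun x y t => Subtype.ext (Units.ext ?_)
    have h8 := Subtype.mk.inj (Prod.mk.inj t).2
    have h9 := Prod.mk.inj (Prod.mk.inj t).1
    rwa [sub_mul, sub_mul, one_mul, one_mul, h0.cen _ (congrArg Units.val x.2.2), h0.cen _ (congrArg Units.val y.2.2), mul_add, mul_add,
      rs_eq he (Subtype.mk.inj h9.1), rs_eq hf (Subtype.mk.inj h9.2), sub_left_inj] at h8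

/-- **symplectic groups** -/
theorem ss_Sp {F : FR h.EB} (hS : IsSp h F) (hp' : p.Prime) [CharP K p] (hm : m.Coprime p) {u : h.EBˣ} (hu : u ∈ F.Iso)
    (hp : u ^ m = 1) {d a : ℕ} (hd : cA (u : h.EB) = Fintype.card K ^ d) (ha : a = if p = 2 then finrank K (LinearMap.ker (h.ap u - 1))
      else finrank K (LinearMap.ker (h.ap u - 1)) + finrank K (LinearMap.ker (h.ap (-u) - 1))) :
    cO F u * Fintype.card K ^ (finrank K V / 2) ≤ Fintype.card K ^ ((d + a) / 2) * (Fintype.card K + 1) ^ (finrank K V / 2) := by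
  obtain ⟨e, f, he, hf, s, ν, h1, h2, h3, h4⟩ := ss_bil hS.1 hp' hm F hu hp hd
  have h5 : ∀ {e : h.EB}, CI (u : h.EB) e → Nat.card (Vec.Isom K fun v w : LinearMap.range (h.ap e) => h.b v w) ≤
      Fintype.card K ^ (rk h e + 1).choose 2 := fun {e} he => by
    rw [← Nat.card_eq_fintype_card]
    exact card_alt (LinearMap.mk₂ K (fun v w : LinearMap.range (h.ap e) => h.b v w) (fun _ _ _ => h.add_left _ _ _)
      (fun _ _ _ => h.smul_left _ _ _) (fun _ _ _ => h.add_right _ _ _) fun c v w => (h.smul_right c v w).trans (by rw [hS.1]; rfl))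
      (fun v => hS.2.1 v) fun v hv => Subtype.ext (nd_rg he v v.2 fun w hw => by
        rw [h.swap, show h.b v w = 0 from hv ⟨w, hw⟩, map_zero, mul_zero])
  refine up_le ((h4 (Vec.Isom K fun v w => h.b v w) (Vec.Isom K fun v w => h.b v w) fun x hx _ =>
    ⟨fun v w => b_of_unit hx.1 v w, fun v w => b_of_unit hx.1 v w⟩).trans
    (Nat.mul_le_mul_right _ ((Nat.mul_le_mul_right _ (Nat.mul_le_mul (h5 he) (h5 hf))).trans ?_))) (by omega)
  have h6 := ch_succ (rk h e)
  have h7 := ch_succ (rk h f)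
  rw [← pow_add, ← pow_add]
  exact Nat.pow_le_pow_right Fintype.card_pos (by omega)

/-- **orthogonal groups** -/
theorem ss_O {F : FR h.EB} {Q : QuadraticForm K V} (o : IsO h F Q) (hp' : p.Prime) [CharP K p] (hm : m.Coprime p) {u : h.EBˣ}
    (hu : u ∈ F.Iso) (hp : u ^ m = 1) {d a : ℕ} (hd : cA (u : h.EB) = Fintype.card K ^ d)
    (ha : a = if p = 2 then finrank K (LinearMap.ker (h.ap u - 1))
      else finrank K (LinearMap.ker (h.ap u - 1)) + finrank K (LinearMap.ker (h.ap (-u) - 1))) :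
    cO F u * Fintype.card K ^ (finrank K V / 2) ≤ 4 * Fintype.card K ^ ((d - a) / 2) * (Fintype.card K + 1) ^ (finrank K V / 2) := by
  obtain ⟨e, f, he, hf, s, ν, h1, h2, h3, h4⟩ := ss_bil o.1 hp' hm F hu hp hd
  have h5 : ∀ {e : h.EB}, CI (u : h.EB) e → Nat.card (O (Q.comp (LinearMap.range (h.ap e)).subtype)) * Fintype.card K ^ (rk h e / 2) ≤
      2 * Fintype.card K ^ (rk h e).choose 2 * (Fintype.card K + 1) ^ (rk h e / 2) := fun {e} he => by
    obtain ⟨k1, k2⟩ := card_O (Q.comp (LinearMap.range (h.ap e)).subtype) fun x hx => Subtype.ext (nd_rg he x x.2 fun w hw => by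
      rw [o.2.1, QuadraticMap.polar_comm]
      exact hx ⟨w, hw⟩)
    rw [Nat.card_eq_fintype_card (α := K)] at k1 k2
    by_cases t : rk h e = 2
    · exact up_le (a := 1) (by rw [pow_one, pow_one, mul_right_comm]; exact k1) (by omega)
    · exact up_le (a := 0) (Nat.mul_le_mul_right _ (k2 t)) (Nat.zero_le _)
  have h6 := h4 (O (Q.comp (LinearMap.range (h.ap e)).subtype)) (O (Q.comp (LinearMap.range (h.ap f)).subtype)) fun x hx _ =>
    ⟨fun v => (SB.Tor.mem_Iso_O o _).1 hx v, fun v => (SB.Tor.mem_Iso_O o _).1 hx v⟩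
  refine up_le (a := ν + rk h e / 2 + rk h f / 2) ?_ (by omega)
  have h7 := ch_two (rk h e)
  have h8 := ch_two (rk h f)
  have h9 := Nat.pow_le_pow_right (Fintype.card_pos (α := K)) (show (rk h e).choose 2 + (rk h f).choose 2 + s ≤ (d - a) / 2 by omega)
  have h10 := Nat.mul_le_mul_right (Fintype.card K ^ s * (Fintype.card K + 1) ^ ν) (Nat.mul_le_mul (h5 he) (h5 hf))
  calc _ = cO F u * Fintype.card K ^ ν * (Fintype.card K ^ (rk h e / 2) * Fintype.card K ^ (rk h f / 2)) := by ring
    _ ≤ _ := Nat.mul_le_mul_right _ h6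
    _ = _ := by ring
    _ ≤ _ := h10
    _ = 4 * Fintype.card K ^ ((rk h e).choose 2 + (rk h f).choose 2 + s) * (Fintype.card K + 1) ^ (ν + rk h e / 2 + rk h f / 2) := by ring
    _ ≤ _ := Nat.mul_le_mul_right _ (Nat.mul_le_mul_left _ h9)

end Cfsg.Agent.N2C.Sz
end

-- part: N2/Cl/RD/Sz
section
/-!
# N2 (S3519), class S in the defining characteristic: `SemiD` and `SsD` (helper96)
-/

set_option autoImplicit false
set_option linter.unusedSectionVars false
set_option maxHeartbeats 400000

namespace Cfsg.Agent.N2C.RD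

open Cfsg Cfsg.Geo Subgroup Module Matrix Cfsg.Agent.DS.Cl Cfsg.Agent.DS.Cl.Fwd
open Cfsg.Agent.N2C.Cyc Cfsg.Agent.N2C.RX Cfsg.Agent.N2C.RX.Sm
open Cfsg.Agent.N2C.Res (Rep repL repH)
open Cfsg.Agent.N2C.Sz (Mu)
open Cfsg.Agent.TH.Cl (KU KSp KO)
open Cfsg.Agent.N2C.RX.R0 (card_tw ZI_bil)

variable {K : Type} [Field K] [Fintype K] {n p : ℕ}

theorem cA_dm (u : GL (Fin n) K) : cA (u : Matrix (Fin n) (Fin n) K) = Fintype.card K ^ dm u := by
  rw [dm, ← Nat.card_eq_fintype_card, ← Module.natCard_eq_pow_finrank]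
  exact Nat.card_congr (Equiv.subtypeEquivRight fun x => by simp [Subalgebra.mem_centralizer_iff, eq_comm])

section gen

variable {A : Type} [Ring A] [StarRing A] [Finite A] {F : FR A} {N : Subgroup (RingAut A)} (R : Rep F K n) {c : R.P N → ℕ}
  (hc : ∀ u (hu : u ∈ lft F N), c ⟨R.gl u, u, hu, rfl⟩ ≤ N2.cn (el (Res.lft_le F N hu))) {t : Kd} {q : ℕ}
  (hz : ∀ z ∈ ZI F, z ^ zz t q = 1) (hz' : zz t q ≤ Nat.card (ZI F))

include hc hz hz'

theorem semiD_of (hp : p.Prime) [CharP K p]
    (hs : ∀ (s : ℕ) [Fact s.Prime], ∀ u ∈ F.Iso, (s : K) ≠ 0 → 2 < s → u ^ s = 1 → ∃ μ : ZMod s → ℕ,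
      Mu (Fintype.card K) n (R.ρ u) μ ∧ μ 0 = Sz.ml (R.ρ u) 1 ∧ (∀ i, μ ((fr t q : ℤ) * i) = μ i) ∧ (bil t → ∀ i, μ (-i) = μ i) ∧
      ∀ e z : ℕ, orderOf ((fr t q : ℤ) : ZMod s) = e → (Finset.univ.filter fun i => i ≠ 0 ∧ μ i ≠ 0).card = z →
        cO F u * (q ^ eq t e) ^ nu t e z * q ^ dl t (μ 0) ≤
          kp t (μ 0) * q ^ es t (∑ i, μ i ^ 2) (μ 0) * (q ^ eq t e + 1) ^ nu t e z * (q + 1) ^ dl t (μ 0)) :
    SemiD t q p (R.P N) c := by
  rintro s _ ⟨_, u, hu, rfl⟩ hsp h2 ho
  have hs' : s.Prime := Fact.out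
  have hu' := Res.lft_le_Iso F N hu
  have hm : u ^ s = 1 := R.gl_inj (pow_mem hu' s) (one_mem _) (by
    rw [map_pow, map_one, ← ho]; exact congrArg Subtype.val (pow_orderOf_eq_one (⟨R.gl u, u, hu, rfl⟩ : R.P N)))
  obtain ⟨μ, h3, h4, h5, h6, h7⟩ := hs s u hu'
    (fun k => hsp ((Nat.prime_dvd_prime_iff_eq hp hs').1 ((CharP.cast_eq_zero_iff K p s).1 k)).symm) h2 hm
  have h8 : dm (R.gl u) = ∑ i, μ i ^ 2 := Nat.pow_right_injective (Fintype.one_lt_card (α := K)) ((cA_dm _).symm.trans h3.card)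
  refine ⟨μ, h3.sum, h4, h8, fun j hj => ?_, h5, h6, fun e z he hz2 => ?_⟩
  · obtain ⟨v, hv⟩ := isConj_iff.1 hj
    refine h3.conj (v : GL (Fin n) K) j (Units.isUnit _) ?_ (Nat.coprime_comm.1 (hs'.coprime_iff_not_dvd.2 fun k => ?_))
    · exact congrArg (fun x : R.P N => ((x : GL (Fin n) K) : Matrix (Fin n) (Fin n) K)) (mul_inv_eq_iff_eq_mul.1 hv)
    · rw [orderOf_dvd_iff_pow_eq_one.1 (ho ▸ k), conj_eq_one_iff] at hv
      rw [hv, orderOf_one] at ho
      omega
  have h9 := cn_mul_le (Res.lft_le F N hu) (card_ww (R := R) hs' hm hz)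
  rw [show dm ((⟨R.gl u, u, hu, rfl⟩ : R.P N) : GL (Fin n) K) = _ from h8]
  calc _ ≤ ww t n q s * (cO F u * (q ^ eq t e) ^ nu t e z * q ^ dl t (μ 0)) :=
        (Nat.mul_le_mul_right _ (Nat.mul_le_mul_right _ ((Nat.mul_le_mul (hc u hu) hz').trans h9))).trans_eq (by ring)
    _ ≤ _ := (Nat.mul_le_mul_left _ (h7 e z he hz2)).trans_eq (by ring)

theorem ssD_of (hs : ∀ u ∈ F.Iso, (t = .U ∨ ∃ m : ℕ, m.Coprime p ∧ u ^ m = 1) →
      cO F u * q ^ kk t n ≤ k4 t * q ^ es t (dm (R.gl u)) (e2 p (R.gl u)) * (q + 1) ^ kk t n) : SsD t q p (R.P N) c := by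
  rintro ⟨_, u, hu, rfl⟩ ho
  have hu' := Res.lft_le_Iso F N hu
  have h7 := hs u hu' (ho.imp_right fun k => ⟨_, k, R.gl_inj (pow_mem hu' _) (one_mem _) (by
    rw [map_pow, map_one]; exact congrArg Subtype.val (pow_orderOf_eq_one (⟨R.gl u, u, hu, rfl⟩ : R.P N)))⟩)
  have h9 := cn_mul_le (Res.lft_le F N hu) (card_tw R u hz)
  calc _ ≤ Nat.gcd n (zz t q) * (cO F u * q ^ kk t n) :=
        (Nat.mul_le_mul_right _ ((Nat.mul_le_mul (hc u hu) hz').trans h9)).trans_eq (mul_assoc _ _ _)
    _ ≤ _ := (Nat.mul_le_mul_left _ h7).trans_eq (by rw [← mul_assoc, ← mul_assoc])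

end gen

section L

variable {F : FR (LR (Fin n) K)} {N : Subgroup (RingAut (LR (Fin n) K))} (hn : 0 < n) {c : (repL F hn).P N → ℕ}
  (hc : ∀ u (hu : u ∈ lft F N), c ⟨(repL F hn).gl u, u, hu, rfl⟩ ≤ N2.cn (el (Res.lft_le F N hu)))

include hc

theorem semiD_L (hp : p.Prime) [CharP K p] : SemiD .L (Fintype.card K) p ((repL F hn).P N) c := by
  refine semiD_of _ hc (fun _ => ZI_pow_L) (card_ZI_L F hn) hp fun s _ u hu hs h2 hm => ?_
  obtain ⟨μ, h1, h3⟩ := Sz.exists_mu (RingEquiv.refl _) hs (u := (repL F hn).ρ u) (by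
    rw [← map_pow, ← Units.val_pow_eq_pow_val, hm, Units.val_one, map_one])
  rw [Fintype.card_fin] at h1
  refine ⟨μ, h1, h3, fun i => ?_, False.elim, fun e z _ _ => ?_⟩
  · rw [show fr .L (Fintype.card K) = Fintype.card K from rfl, Int.cast_natCast, h1.frob]
  · show cO F u * 1 * 1 ≤ 1 * Fintype.card K ^ (∑ i, μ i ^ 2) * 1 * 1
    rw [mul_one, mul_one, mul_one, mul_one, one_mul, ← h1.card]
    exact Sz.cO_le_cA_L F u

theorem ssD_L : SsD .L (Fintype.card K) p ((repL F hn).P N) c := by
  refine ssD_of _ hc (fun _ => ZI_pow_L) (card_ZI_L F hn) fun u _ _ => ?_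
  show cO F u * 1 ≤ 1 * Fintype.card K ^ dm ((repL F hn).gl u) * 1
  rw [mul_one, mul_one, one_mul, ← cA_dm]
  exact Sz.cO_le_cA_L F u

end L

section H

variable {V : Type} [AddCommGroup V] [Module K V] [Finite V] {h : HF K V} {F : FR h.EB} {N : Subgroup (RingAut h.EB)}
  (b : Basis (Fin n) K V) (hn : 0 < n)

theorem ml_H (u : h.EB) : Sz.ml ((repH h F b hn).ρ u) 1 = finrank K (LinearMap.ker (h.ap u - 1)) :=
  (Sz.ml_toMatrix b (h.ap u) 1).trans (by rw [one_smul])

theorem e2_H (u : h.EBˣ) : e2 p ((repH h F b hn).gl u) = if p = 2 then finrank K (LinearMap.ker (h.ap u - 1))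
    else finrank K (LinearMap.ker (h.ap u - 1)) + finrank K (LinearMap.ker (h.ap (-u) - 1)) := by
  have h1 : ev ((repH h F b hn).gl u) (-1) = finrank K (LinearMap.ker (h.ap (-u) - 1)) := (Sz.ml_toMatrix b (h.ap u) (-1)).trans (by
    rw [← LinearMap.ker_neg, neg_one_smul, sub_neg_eq_add, neg_add, ← sub_eq_add_neg]; rfl)
  rw [← h1, ← ml_H (F := F) b hn]
  rfl

theorem mu_H {m : ℕ} [NeZero m] {u : h.EB} {μ : ZMod m → ℕ} (k : Mu (Fintype.card K) (finrank K V) u μ) :
    Mu (Fintype.card K) n ((repH h F b hn).ρ u) μ :=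
  ((finrank_eq_card_basis b).trans (Fintype.card_fin n)) ▸ mu_map (RingEquiv.ofBijective _ (SB.Idem.piB_bij h b)) k

theorem cA_H (u : h.EBˣ) : cA (u : h.EB) = Fintype.card K ^ dm ((repH h F b hn).gl u) :=
  (Sz.cA_map (RingEquiv.ofBijective _ (SB.Idem.piB_bij h b)) (u : h.EB)).symm.trans (cA_dm ((repH h F b hn).gl u))

variable {c : (repH h F b hn).P N → ℕ}
  (hc : ∀ u (hu : u ∈ lft F N), c ⟨(repH h F b hn).gl u, u, hu, rfl⟩ ≤ N2.cn (el (Res.lft_le F N hu)))

include hc

theorem semiD_U {q : ℕ} (k : KU h F q) (hp : p.Prime) [CharP K p] : SemiD .U q p ((repH h F b hn).P N) c := by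
  have := nontrivial_of_dim (K := K) (V := V) (by have := k.dim; omega)
  refine semiD_of _ hc (fun _ => ZI_pow_U k) (card_ZI_U k) hp fun s _ u hu hs h2 hm => ?_
  obtain ⟨μ, h1, h3, h4, h5⟩ := Sz.size_U k.u k.card hs hu.1 (by rw [← Units.val_pow_eq_pow_val, hm, Units.val_one])
  rw [show fr .U q = -q from rfl, Int.cast_neg, Int.cast_natCast]
  refine ⟨μ, mu_H b hn h1, h3.trans (ml_H b hn _).symm, fun i => by rw [neg_mul, h4], False.elim, fun e z he hz => ?_⟩
  rw [show kp .U (μ 0) = 1 from rfl, show es .U (∑ i, μ i ^ 2) (μ 0) = ∑ i, μ i ^ 2 from rfl, one_mul]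
  refine le_trans (Nat.mul_le_mul_right _ (Nat.mul_le_mul_right _ (cO_le_cU F u))) ?_
  have h6 : μ 0 ≠ 0 → 1 ≤ dl .U (μ 0) := fun t => (if_neg t).ge
  by_cases t : e % 2 = 1
  · rw [show eq .U e = e from if_pos t]
    exact h5 e _ _ he (fun _ => hz ▸ (if_neg fun o : eq .U e = 0 => by
      rw [show eq .U e = e from if_pos t] at o; omega).ge) h6
  · rw [show nu .U e z = 0 from if_pos (if_neg t)]
    exact h5 e 0 _ he (fun o => absurd (Nat.odd_iff.1 o) t) h6

theorem ssD_U {q : ℕ} (k : KU h F q) : SsD .U q p ((repH h F b hn).P N) c := by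
  refine ssD_of _ hc (fun _ => ZI_pow_U k) (card_ZI_U k) fun u hu _ => ?_
  show cO F u * q ^ n ≤ 1 * q ^ dm ((repH h F b hn).gl u) * (q + 1) ^ n
  have h1 := Sz.size_U_all k.u k.card hu.1 (cA_H (F := F) b hn u)
  rw [finrank_eq_card_basis b, Fintype.card_fin] at h1
  rw [one_mul]
  exact (Nat.mul_le_mul_right _ (cO_le_cU F u)).trans h1

theorem semiD_S {j : ℕ} (k : KSp h F j) (hp : p.Prime) [CharP K p] : SemiD .S (Fintype.card K) p ((repH h F b hn).P N) c := by
  have h1 := k.dim
  have := nontrivial_of_dim (K := K) (V := V) (by rwa [finrank_eq_card_basis b, Fintype.card_fin])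
  refine semiD_of _ hc (ZI_bil k.sp.1).1 (ZI_bil k.sp.1).2 hp fun s _ u hu hs h2 hm => ?_
  obtain ⟨μ, h1, h3, h4, h5⟩ := Sz.size_Sp k.sp ⟨j, by omega⟩ h2 hs hu hm
  rw [show fr .S (Fintype.card K) = Fintype.card K from rfl, Int.cast_natCast]
  refine ⟨μ, mu_H b hn h1, h3.trans (ml_H b hn _).symm, h1.frob, fun _ => h4, fun e z he hz => ?_⟩
  rw [show kp .S (μ 0) = 1 from rfl, show es .S (∑ i, μ i ^ 2) (μ 0) = (∑ i, μ i ^ 2 + μ 0) / 2 from rfl,
    show dl .S (μ 0) = 0 from rfl, one_mul, pow_zero, pow_zero, mul_one, mul_one]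
  rcases nu_bil (t := .S) trivial z (he ▸ ord_pos hs) with ⟨-, t2, t3⟩ | ⟨t1, t3⟩
  · rw [t2, t3]
    exact h5 e _ he fun _ => hz ▸ le_rfl
  · rw [t3]
    exact h5 e 0 he fun o => absurd o t1

theorem ssD_S {j : ℕ} (k : KSp h F j) (hp : p.Prime) [CharP K p] : SsD .S (Fintype.card K) p ((repH h F b hn).P N) c := by
  have := nontrivial_of_dim (K := K) (V := V) (by rwa [finrank_eq_card_basis b, Fintype.card_fin])
  refine ssD_of _ hc (ZI_bil k.sp.1).1 (ZI_bil k.sp.1).2 fun u hu ho => ?_
  obtain ⟨m, h1, h2⟩ := ho.resolve_left (by decide)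
  have h3 := Sz.ss_Sp k.sp hp h1 hu h2 (cA_H (F := F) b hn u) (e2_H (F := F) b hn u)
  rw [finrank_eq_card_basis b, Fintype.card_fin, ← one_mul (_ ^ ((_ + _) / 2))] at h3
  exact h3

theorem semiD_O {Q : QuadraticForm K V} (k : KO h F Q) {t : Kd} (ht : t = .O ∨ t = .P ∨ t = .M) (hp : p.Prime) [CharP K p] :
    SemiD t (Fintype.card K) p ((repH h F b hn).P N) c := by
  have := nontrivial_of_dim (K := K) (V := V) (by rwa [finrank_eq_card_basis b, Fintype.card_fin])
  have hz : zz t (Fintype.card K) = Nat.gcd 2 (Fintype.card K - 1) := by rcases ht with rfl | rfl | rfl <;> rfl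
  have hf : fr t (Fintype.card K) = Fintype.card K := by rcases ht with rfl | rfl | rfl <;> rfl
  refine semiD_of _ hc (hz ▸ (ZI_bil k.o.1).1) (hz ▸ (ZI_bil k.o.1).2) hp fun s _ u hu hs h2 hm => ?_
  obtain ⟨μ, h1, h3, h4, h5⟩ := Sz.size_O k.o h2 hs hu hm
  rw [hf, Int.cast_natCast]
  refine ⟨μ, mu_H b hn h1, h3.trans (ml_H b hn _).symm, h1.frob, fun _ => h4, fun e z he hz => ?_⟩
  rw [show kp t (μ 0) = if μ 0 = 0 then 1 else 2 by rcases ht with rfl | rfl | rfl <;> rfl,
    show dl t (μ 0) = if μ 0 = 2 then 1 else 0 by rcases ht with rfl | rfl | rfl <;> rfl,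
    show es t (∑ i, μ i ^ 2) (μ 0) = (∑ i, μ i ^ 2 - μ 0) / 2 by rcases ht with rfl | rfl | rfl <;> rfl]
  rcases nu_bil (t := t) (by rcases ht with rfl | rfl | rfl <;> trivial) z (he ▸ ord_pos hs) with ⟨-, t2, t3⟩ | ⟨t1, t3⟩
  · rw [t2, t3]
    exact h5 e _ he fun _ => hz ▸ le_rfl
  · rw [t3]
    exact h5 e 0 he fun o => absurd o t1

theorem ssD_O {Q : QuadraticForm K V} (k : KO h F Q) {t : Kd} (ht : t = .O ∨ t = .P ∨ t = .M) (hp : p.Prime) [CharP K p] :
    SsD t (Fintype.card K) p ((repH h F b hn).P N) c := by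
  have := nontrivial_of_dim (K := K) (V := V) (by rwa [finrank_eq_card_basis b, Fintype.card_fin])
  have hz : zz t (Fintype.card K) = Nat.gcd 2 (Fintype.card K - 1) := by rcases ht with rfl | rfl | rfl <;> rfl
  refine ssD_of _ hc (hz ▸ (ZI_bil k.o.1).1) (hz ▸ (ZI_bil k.o.1).2) fun u hu ho => ?_
  obtain ⟨m, h1, h2⟩ := ho.resolve_left (by rcases ht with rfl | rfl | rfl <;> decide)
  have h3 := Sz.ss_O k.o hp h1 hu h2 (cA_H (F := F) b hn u) (e2_H (F := F) b hn u)
  rw [finrank_eq_card_basis b, Fintype.card_fin] at h3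
  rcases ht with rfl | rfl | rfl <;> exact h3

end H

end Cfsg.Agent.N2C.RD
end

-- part: N2/Cl/RD/Lnk
section
/-!
# N2 (S3519), class S in the defining characteristic: `boxMd` (helper94)
-/

set_option autoImplicit false
set_option linter.unusedSectionVars false
set_option maxHeartbeats 400000

namespace Cfsg.Agent.N2C.RD

open Cfsg Cfsg.Geo Subgroup Module Matrix Cfsg.Agent.DS.Cl Cfsg.Agent.DS.Cl.Fwd
open Cfsg.Agent.N2C.Cyc Cfsg.Agent.N2C.RX
open Cfsg.Agent.N2C.Res (Rep repL repH)
open Cfsg.Agent.H915.LD (Soc toSoc Cj)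
open Cfsg.Agent.TH.Cl (KL KU KSp KO)
open Cfsg.Agent.FP3 (fx)
open Cfsg.Agent.N2C.RX.R0 (card_tw ZI_bil)

namespace Lk

section grp

variable {T S : Type} [Group T] [Finite T] [Group S] [Finite S]

theorem fx_mod (B : Subgroup T) {a : T} {r : ℕ} (hr : r.Prime) (ha : orderOf a = r) :
    fx B a ≡ Nat.card T / Nat.card B [MOD r] := by
  have : Fact r.Prime := ⟨hr⟩
  have h1 : IsPGroup r (zpowers a) := IsPGroup.of_card (n := 1) (by rw [Nat.card_zpowers, ha, pow_one])
  have h2 := h1.card_modEq_card_fixedPoints (T ⧸ B)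
  rw [← B.index_mul_card, Nat.mul_div_cancel _ Nat.card_pos]
  have h3 : Nat.card (MulAction.fixedPoints (zpowers a) (T ⧸ B)) = fx B a :=
    Nat.card_congr (Equiv.subtypeEquivRight fun x => ⟨fun h => h ⟨a, mem_zpowers a⟩,
      fun h y => (zpowers_le.2 h : zpowers a ≤ MulAction.stabilizer T x) y.2⟩)
  exact (h3 ▸ h2).symm

/-- the conjugates in `B` of an element which generates a weakly closed subgroup of the normal subgroup `S` -/
theorem cc_mul (B : Subgroup T) (ι : S →* T) (hι : Function.Injective ι) (hB : ∀ s, ι s ∈ B)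
    (hn : ∀ b ∈ B, ∀ s, b * ι s * b⁻¹ ∈ ι.range) {g : S} {r : ℕ} (hr : r.Prime) (hg : orderOf g = r)
    (hi : ¬ r * Nat.card S ∣ Nat.card B) (hc : ∀ x : S, orderOf x = r → ∃ j : ℕ, IsConj x (g ^ j)) :
    N2.cc B (ι g) * Nat.card (normalizer (zpowers g : Set S)) ≤
      Nat.card {y : zpowers g // IsConj (ι g) (ι y)} * Nat.card S := by
  have hN : (ι.range.subgroupOf B).Normal := ⟨fun x hx b => by
    obtain ⟨s, hs⟩ := hx
    have h1 := hn b b.2 s
    rwa [hs] at h1⟩
  have hi' : (ι.range.subgroupOf B).index.gcd r = 1 := Nat.coprime_comm.1 (hr.coprime_iff_not_dvd.2 fun k => hi (by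
    rw [← (ι.range.subgroupOf B).index_mul_card, Nat.card_congr (subgroupOfEquivOfLe (show ι.range ≤ B by
      rintro _ ⟨s, rfl⟩; exact hB s)).toEquiv, ← Nat.card_congr (MonoidHom.ofInjective hι).toEquiv]
    exact Nat.mul_dvd_mul_right k _))
  have key : ∀ x : {x : T // IsConj (ι g) x ∧ x ∈ B}, ∃ s h : S, ι s = x.1 ∧ h⁻¹ * s * h ∈ zpowers g := fun x => by
    have h1 : orderOf x.1 = r := by
      obtain ⟨v, hv⟩ := isConj_iff.1 x.2.1
      rw [← hv, show v * ι g * v⁻¹ = MulAut.conj v (ι g) from rfl, MulEquiv.orderOf_eq, orderOf_injective ι hι, hg]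
    have h4 : (⟨x.1, x.2.2⟩ : B) ∈ zpowers ((⟨x.1, x.2.2⟩ : B) ^ (ι.range.subgroupOf B).index) := mem_zpowers_pow_iff.2 (by
      rw [← orderOf_coe, h1, hi'])
    obtain ⟨s, hs⟩ : (⟨x.1, x.2.2⟩ : B) ∈ ι.range.subgroupOf B :=
      zpowers_le.2 ((ι.range.subgroupOf B).pow_index_mem _) h4
    obtain ⟨j, hj⟩ := hc s (by rw [← orderOf_injective ι hι, hs]; exact h1)
    obtain ⟨v, hv⟩ := isConj_iff.1 hj
    exact ⟨s, v⁻¹, hs, by rw [inv_inv, hv]; exact pow_mem (mem_zpowers g) j⟩
  choose s h h1 h2 using key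
  rw [N2.cc, ← Nat.card_prod, ← Nat.card_prod]
  refine Nat.card_le_card_of_injective (fun y => (⟨⟨(h y.1 * y.2)⁻¹ * s y.1 * (h y.1 * y.2), ?_⟩, ?_⟩, h y.1 * y.2))
    fun y z e => ?_
  · have h3 := (mem_normalizer_iff.1 (inv_mem y.2.2) _).1 (h2 y.1)
    rwa [show (y.2 : S)⁻¹ * ((h y.1)⁻¹ * s y.1 * h y.1) * (y.2 : S)⁻¹⁻¹ =
      (h y.1 * y.2)⁻¹ * s y.1 * (h y.1 * y.2) by group] at h3
  · refine y.1.2.1.trans (isConj_iff.2 ⟨(ι (h y.1 * y.2))⁻¹, ?_⟩)
    rw [← h1, inv_inv, ← map_inv, ← map_mul, ← map_mul]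
  · have h3 : h y.1 * y.2 = h z.1 * z.2 := (Prod.mk.inj e).2
    have h4 : (h y.1 * y.2)⁻¹ * s y.1 * (h y.1 * y.2) = (h z.1 * z.2)⁻¹ * s z.1 * (h z.1 * z.2) :=
      congrArg (fun w => ((w.1.1 : zpowers g) : S)) e
    rw [h3, mul_left_inj, mul_right_inj] at h4
    have h5 : y.1 = z.1 := Subtype.ext (by rw [← h1, ← h1, h4])
    rw [h5, mul_right_inj] at h3
    exact Prod.ext h5 (Subtype.ext h3)

end grp

/-- the powers of a matrix of prime order which are conjugate to it -/
theorem pow_le {K : Type} [Field K] [Fintype K] {n r : ℕ} (hr : r.Prime) (hK : (r : K) ≠ 0) {u : GL (Fin n) K}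
    (hu : orderOf u = r) {X : Type} (j : X → ℕ) (hj : ∀ x y, (j x : ZMod r) = j y → x = y)
    (hc : ∀ x, IsConj u (u ^ j x)) : Nat.card X ≤ n - ev u 1 := by
  have : Fact r.Prime := ⟨hr⟩
  obtain ⟨μ, h1, h2⟩ := Sz.exists_mu (RingEquiv.refl _) hK (u := (u : Matrix (Fin n) (Fin n) K)) (by
    rw [← Units.val_pow_eq_pow_val, ← hu, pow_orderOf_eq_one, Units.val_one])
  have h3 := h1.sum
  rw [Fintype.card_fin, ← Finset.add_sum_erase _ _ (Finset.mem_univ 0)] at h3
  have h4 : μ 0 = ev u 1 := h2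
  obtain ⟨i, hi, hi'⟩ : ∃ i ∈ Finset.univ.erase (0 : ZMod r), μ i ≠ 0 := by
    by_contra! h5
    rw [Finset.sum_eq_zero h5, add_zero, h4] at h3
    have h6 := Submodule.eq_top_of_finrank_eq (h3.trans (finrank_fin_fun K).symm)
    have h7 : u = 1 := Units.ext (Matrix.toLin'.injective (LinearMap.ext fun v => by
      have h8 := End.mem_eigenspace_iff.1 (h6.ge (Submodule.mem_top (x := v)))
      rw [h8, one_smul, Units.val_one, Matrix.toLin'_one, LinearMap.id_apply]))
    rw [h7, orderOf_one] at hu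
    exact hr.one_lt.ne hu
  have h5 : ∀ x, (j x).Coprime r := fun x => Nat.coprime_comm.1 (hr.coprime_iff_not_dvd.2 fun k => by
    have h6 := hc x
    rw [orderOf_dvd_iff_pow_eq_one.1 (hu ▸ k), isConj_one_left] at h6
    rw [h6, orderOf_one] at hu
    exact hr.one_lt.ne hu)
  have h6 : ∀ x, μ (j x * i) = μ i := fun x => by
    obtain ⟨v, hv⟩ := isConj_iff.1 (hc x)
    exact h1.conj (v : Matrix (Fin n) (Fin n) K) (j x) (Units.isUnit _)
      (congrArg Units.val (mul_inv_eq_iff_eq_mul.1 hv)) (h5 x) i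
  have hi0 := Finset.ne_of_mem_erase hi
  have h7 : Nat.card X ≤ Nat.card ((Finset.univ.erase (0 : ZMod r)).filter fun k => μ k ≠ 0) :=
    Nat.card_le_card_of_injective (fun x => ⟨j x * i, Finset.mem_filter.2 ⟨Finset.mem_erase.2 ⟨mul_ne_zero
      ((ZMod.isUnit_iff_coprime _ _).2 (h5 x)).ne_zero hi0, Finset.mem_univ _⟩, (h6 x).symm ▸ hi'⟩⟩)
      fun x y e => hj x y (mul_right_cancel₀ hi0 (Subtype.mk.inj e))
  rw [Nat.card_eq_finsetCard, Finset.card_filter] at h7
  have h8 := h7.trans (Finset.sum_le_sum (g := μ) fun k _ => by split_ifs with h <;> omega)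
  omega

section gen

variable {A : Type} [Ring A] [StarRing A] [Finite A] {F : FR A} {H N : Subgroup (RingAut A)} {p : ℕ}
  {K : Type} [Field K] [Fintype K] {n : ℕ} (R : Rep F K n)

/-- **the part without forms** -/
theorem md0_of (c : Ctx F H p) (r : Res F H N) {t : Kd} {q : ℕ} (hp : CharP K p) (hK : Fintype.card K = kq t q)
    (hd : dimOk t n q) (ho : oD t n q * Nat.card F.S = oI t n q) (hF : Frm (R.P N) t q)
    (hj : t = .L → ∀ k, ¬ Cj (R.P N) (p ^ k))
    (hz : ∀ z ∈ ZI F, z ^ zz t q = 1) (hz' : zz t q ≤ Nat.card (ZI F))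
    (hs : ∀ u ∈ F.Iso, cO F u ^ 2 ≤ q ^ ec t n (dm (R.gl u)))
    (hy : ∀ u ∈ F.Iso, (p = 2 → bil t → ev (R.gl u) 1 = 0) → n ≤ (minpoly K (R.ρ u)).natDegree → cO F u ≤ cb t n q) :
    ∃ (c f : R.P N → ℕ) (b : ℕ), Nonempty (Soc (R.P N) ≃* N) ∧
      (∀ u (hu : u ∈ lft F N), c ⟨R.gl u, u, hu, rfl⟩ ≤ N2.cn (el (Res.lft_le F N hu))) ∧
      Md0 t q p (Nat.card F.S) b (R.P N) (Gd F H) c f := by
  have := finAut (A := A)
  obtain ⟨e, he⟩ := R.exists_soc c.span r
  have hC := R.core c.span r
  let ι : Soc (R.P N) →* F.S := (inclusion (Res.le_S r)).comp e.toMonoidHom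
  have hι : Function.Injective ι := (inclusion_injective (Res.le_S r)).comp e.injective
  have h1 : ∀ u (hu : u ∈ lft F N), ι (toSoc _ ⟨R.gl u, u, hu, rfl⟩) = el (Res.lft_le F N hu) :=
    fun u hu => Subtype.ext (he u hu)
  have h2 : Nat.card (Soc (R.P N)) = Nat.card N := Nat.card_congr e.toEquiv
  have hB : ∀ s, ι s ∈ H.subgroupOf F.S := fun s => Res.le_H r (e s).2
  have h3 : ∀ u (hu : u ∈ lft F N), N2.cn (ι (toSoc _ ⟨R.gl u, u, hu, rfl⟩)) * zz t q ≤ Nat.gcd n (zz t q) * cO F u :=
    fun u hu => h1 u hu ▸ (Nat.mul_le_mul_left _ hz').trans (cn_mul_le (Res.lft_le F N hu) (card_tw R u hz))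
  refine ⟨fun u => N2.cn (ι (toSoc _ u)), fun u => fx (H.subgroupOf F.S) (ι (toSoc _ u)), Nat.card (H.subgroupOf F.S),
    ⟨e⟩, fun u hu => (congrArg N2.cn (h1 u hu)).le, c.cf, c.prime, hp, hK, ?_, hd, ho, hC, hF, hj,
    h2 ▸ Res.card_N_lt r c, h2 ▸ Res.card_N_dvd_B r, card_subgroup_dvd_card _,
    (Res.card_B_dvd_aut r).trans (Nat.card_congr (MulAut.congr e).toEquiv).symm.dvd, fun _ => R.card_B_dvd_lin c.span r c.le,
    fun u h => N2.good_of_le (hB _) le_rfl h, fun u => N2.fx_le_cn _ _,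
    fun u s hs h => fx_mod _ hs ((orderOf_injective ι hι _).trans h), ?_, fun x hx => ?_, ?_, ?_, ?_⟩
  · obtain ⟨m, -, hm⟩ := FiniteField.card K p
    have h1 := Fintype.one_lt_card (α := K)
    obtain ⟨f, -, hf⟩ := (Nat.dvd_prime_pow c.prime).1 (show q ∣ p ^ (m : ℕ) by
      rw [← hm, hK]; cases t <;> simp [kq])
    refine ⟨f, Nat.pos_of_ne_zero fun e => ?_, hf⟩
    rw [hK, hf, e] at h1
    cases t <;> simp [kq] at h1
  · rintro ⟨_, u, hu, rfl⟩ s hs hsp hsz ho hi hc
    have : Fact s.Prime := ⟨hs⟩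
    have hu' := Res.lft_le_Iso F N hu
    set U : R.P N := ⟨R.gl u, u, hu, rfl⟩ with hU
    have hm : u ^ s = 1 := R.gl_inj (pow_mem hu' s) (one_mem _) (by
      rw [map_pow, map_one, ← ho]; exact congrArg Subtype.val (pow_orderOf_eq_one U))
    have h4 : ∀ z ∈ ZI F, z ^ s = 1 → z = 1 := fun z h k =>
      (pow_eq_one_iff_of_coprime (hs.coprime_iff_not_dvd.2 hsz)).1 ⟨k, hz z h⟩
    have hg : orderOf (toSoc _ U) = s := orderOf_eq_prime (by rw [← map_pow, ← ho, pow_orderOf_eq_one, map_one]) fun k => by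
      have h5 : cj A u = 1 := congrArg Subtype.val ((h1 u hu).symm.trans ((congrArg ι k).trans (map_one ι)))
      have h6 : U = 1 := Subtype.ext ((congrArg R.gl (h4 u ⟨hu', h5⟩ hm)).trans (map_one _))
      rw [h6, orderOf_one] at ho
      exact hs.one_lt.ne ho
    have h5 := cc_mul (H.subgroupOf F.S) ι hι hB (fun b hb x => ⟨e.symm ⟨_, r.nrm _ hb _ (e x).2⟩,
      Subtype.ext (congrArg (fun y : N => (y : RingAut A)) (e.apply_symm_apply _))⟩) hs hg hi hc
    choose j hj' using fun y : {y : zpowers (toSoc _ U) // IsConj (ι (toSoc _ U)) (ι y)} =>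
      (mem_powers_iff_mem_zpowers.2 y.1.2 : ∃ j : ℕ, toSoc _ U ^ j = y.1)
    have h6 := pow_le hs (fun k => hsp ((Nat.prime_dvd_prime_iff_eq c.prime hs).1
      ((CharP.cast_eq_zero_iff K p s).1 k)).symm) (u := R.gl u) ((orderOf_coe U).trans ho) j
      (fun x y k => Subtype.ext (Subtype.ext (by
        rw [← hj', ← hj', pow_eq_pow_iff_modEq, hg]
        exact (ZMod.natCast_eq_natCast_iff _ _ _).1 k))) fun y => by
      obtain ⟨⟨_, v, hv, rfl⟩, k⟩ := isConj_iff.1 y.2
      rw [← hj', map_pow, h1 u hu] at k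
      have h7 : cj A (v * u * v⁻¹) = cj A (u ^ j y) := by
        rw [map_mul, map_mul, map_inv, map_pow]
        exact congrArg Subtype.val k
      obtain ⟨z, h8, h9⟩ := cj_eq_iff.1 h7
      have hv' := F.comm_le_Iso hv
      have h10 : z = 1 := h4 z (mem_ZI ((mul_mem_cancel_left (pow_mem hu' (j y))).1
        (h9 ▸ mul_mem (mul_mem hv' hu') (inv_mem hv'))) h8) (by
          have h11 := congrArg (· ^ s) h9
          simp only [conj_pow, hm, mul_one, mul_inv_cancel] at h11
          rw [Commute.mul_pow (units_comm h8 _), ← pow_mul, mul_comm, pow_mul, hm, one_pow, one_mul] at h11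
          exact h11.symm)
      rw [h10, mul_one] at h9
      exact isConj_iff.2 ⟨R.gl v, by rw [← map_inv, ← map_mul, ← map_mul, h9, map_pow]⟩
    calc _ = N2.cn (ι (toSoc _ U)) * (N2.cc (H.subgroupOf F.S) (ι (toSoc _ U)) *
          Nat.card (normalizer (zpowers (toSoc _ U) : Set (Soc (R.P N))))) := by
          rw [mul_right_comm, N2.fx_mul, mul_assoc]
      _ ≤ _ := by
          rw [mul_assoc]
          exact Nat.mul_le_mul_left _ (h5.trans (Nat.mul_le_mul_right _ h6))
  · have := hC.simple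
    obtain ⟨y, hy⟩ := FP3.gen (Soc (R.P N)) hC.nonabelian _ hx
    obtain ⟨y, rfl⟩ := H915.LD.toSoc_surjective _ y
    exact ⟨y, scott2 hC hy⟩
  · obtain ⟨u, hu, k⟩ := SzG.res_smallM r R
    refine ⟨⟨R.gl u, u, hu, rfl⟩, (Nat.pow_le_pow_iff_right (Finite.one_lt_card (α := K))).1 ?_⟩
    rw [← cA_eq_dm']
    exact k
  · rintro ⟨_, u, hu, rfl⟩
    refine (Nat.pow_le_pow_left (h3 u hu) 2).trans ?_
    rw [mul_pow]
    exact Nat.mul_le_mul_left _ (hs u (Res.lft_le_Iso F N hu))
  · rintro ⟨_, u, hu, rfl⟩ k1 k2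
    exact (h3 u hu).trans (Nat.mul_le_mul_left _ (hy u (Res.lft_le_Iso F N hu) k1 k2))

end gen

section kinds

variable {K : Type} [Field K] [Fintype K] {V : Type} [AddCommGroup V] [Module K V] [Finite V] {h : HF K V} {F : FR h.EB}
  {n p : ℕ} (b : Basis (Fin n) K V) (hn : 0 < n)

theorem cyc_H {u : h.EB} (k : n ≤ (minpoly K ((repH h F b hn).ρ u)).natDegree) : CycV (h.ap u) := by
  have : Module.Finite K V := Module.Finite.of_finite
  refine cycV_of_minpoly ?_
  rw [finrank_eq_card_basis b, Fintype.card_fin, ← LinearMap.minpoly_toMatrix b]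
  exact k

theorem cO_bil (hτ : ∀ c, h.τ c = c) (hp : p.Prime) [CharP K p] {u : h.EBˣ} (hu : u ∈ F.Iso)
    (k1 : p = 2 → ev ((repH h F b hn).gl u) 1 = 0) (k2 : n ≤ (minpoly K ((repH h F b hn).ρ u)).natDegree) :
    cO F u ≤ 4 * (Fintype.card K + 1) ^ (n / 2) := by
  have : Module.Finite K V := Module.Finite.of_finite
  obtain ⟨d, h1, h2⟩ : ∃ d : h.EB, d * u = u * d ∧ d + star d = 1 := by
    by_cases h2 : p = 2
    · refine exists_tr_of_unit hu.1 (show IsUnit (h.ap u - 1) from (LinearMap.isUnit_iff_ker_eq_bot _).2 ?_)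
      exact Submodule.finrank_eq_zero.1 ((ml_H (F := F) b hn _).symm.trans (k1 h2))
    · refine exists_tr_of_two ?_ _
      have h3 : (2 : K) ≠ 0 := fun e => h2 ((Nat.prime_dvd_prime_iff_eq hp Nat.prime_two).1
        ((CharP.cast_eq_zero_iff K p 2).1 (by exact_mod_cast e)))
      refine IsUnit.of_mul_eq_one (h.eb ((2 : K)⁻¹ • 1)) (h.ap_ext fun v => ?_)
      rw [two_mul, h.ap_add]
      change (2 : K)⁻¹ • v + (2 : K)⁻¹ • v = v
      rw [← two_smul K, smul_smul, mul_inv_cancel₀ h3, one_smul]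
  have h3 := cU_le_bil_four hτ hu.1 (cyc_H b hn k2) h1 h2
  rw [finrank_eq_card_basis b, Fintype.card_fin] at h3
  exact (cO_le_cU F u).trans h3

theorem cO_sq {u : h.EBˣ} (hu : u ∈ F.Iso) : cO F u ^ 2 ≤ Fintype.card K ^ (dm ((repH h F b hn).gl u) + n) :=
  R0.cO_H h F b hn hu (cA_eq_dm' ((repH h F b hn).gl u))

end kinds

end Lk

open Lk

/-- **[Lnk]** -/
theorem boxMd : BoxMd := by
  refine ⟨fun K _ _ n F H N p k hn c r => ?_, fun K V _ _ _ _ _ h F q H N p k hn c r => ?_,
    fun K V _ _ _ _ _ h F j H N p k hj c r => ?_, fun K V _ _ _ _ _ h F Q H N p t k c r ht hd ho => ?_⟩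
  · have h0 : 0 < n := by omega
    have := Res.charP_L h0 c
    have : Fact p.Prime := ⟨c.prime⟩
    obtain ⟨d, f, b, e, h1, h2⟩ := md0_of (repL F h0) c r (t := .L) ‹_› rfl hn ((mul_assoc _ _ _).trans (card_S_L k))
      (Res.not_sd_L h0 r) (fun _ => Res.not_cj_L h0 r p) (fun _ => ZI_pow_L) (card_ZI_L F h0) (fun u _ => by
        show _ ≤ Fintype.card K ^ (2 * _)
        rw [mul_comm, pow_mul, ← Nat.card_eq_fintype_card, ← cA_eq_dm']
        exact Nat.pow_le_pow_left (R0.cO_le (repL F h0)) 2) fun u _ _ k2 => cO_le_L h0 F (cycV_of_minpoly (by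
          rw [finrank_fin_fun, show SB.Fld.prL n K u = Matrix.toLin' ((repL F h0).ρ u) from rfl, Matrix.minpoly_toLin']
          exact k2))
    exact ⟨K, _, _, _, d, f, b, e, h2, semiD_L h0 h1 c.prime, ssD_L h0 h1⟩
  · have : Module.Finite K V := Module.Finite.of_finite
    have h0 : 0 < finrank K V := by omega
    let b := finBasis K V
    have := Res.charP_H h F b h0 c
    obtain ⟨d, f, m, e, h1, h2⟩ := md0_of (repH h F b h0) c r (t := .U) this k.card hn
      ((mul_assoc _ _ _).trans (card_S_U k)) ⟨Res.cj_U F b h0 k.u k.card N, Res.not_sd_U b h0 k.u r⟩ (fun e => by cases e)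
      (fun _ => ZI_pow_U k) (card_ZI_U k) (fun u hu => by
        rw [ec, pow_mul, ← k.card]
        exact cO_sq b h0 hu) fun u hu _ k2 => (cO_le_cU F u).trans (cU_le_U k.u k.card hu.1 (cyc_H b h0 k2))
    exact ⟨K, _, _, _, d, f, m, e, h2, semiD_U b h0 h1 k c.prime, ssD_U b h0 h1 k⟩
  · have : Module.Finite K V := Module.Finite.of_finite
    have h1 := k.dim
    have h0 : 0 < finrank K V := by omega
    have := nontrivial_of_dim h0
    let b := finBasis K V
    have := Res.charP_H h F b h0 c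
    obtain ⟨d, f, m, e, h2, h3⟩ := md0_of (repH h F b h0) c r (t := .S) this rfl ⟨by omega, by omega⟩
      (by rw [oD, oI, show finrank K V / 2 = j by omega]; exact card_S_Sp k)
      ⟨Res.fixA b h0 k.sp N, Res.sd_H h F b h0 k.sp.1 N, Res.not_fixQ b h0 k.sp r⟩ (fun e => by cases e)
      (ZI_bil k.sp.1).1 (ZI_bil k.sp.1).2 (fun u hu => cO_sq b h0 hu)
      fun u hu k1 k2 => cO_bil b h0 k.sp.1 c.prime hu (fun e => k1 e trivial) k2
    exact ⟨K, _, _, _, d, f, m, e, h3, semiD_S b h0 h2 k c.prime, ssD_S b h0 h2 k c.prime⟩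
  · have : Module.Finite K V := Module.Finite.of_finite
    have h1 := k.dim
    have h0 : 0 < finrank K V := by omega
    have := nontrivial_of_dim h0
    let b := finBasis K V
    have := Res.charP_H h F b h0 c
    obtain ⟨d, f, m, e, h2, h3⟩ := md0_of (repH h F b h0) c r (t := t) (q := Fintype.card K) this
      (by rcases ht with rfl | rfl | rfl <;> rfl) hd ho
      (by rcases ht with rfl | rfl | rfl <;> exact ⟨Res.fixQ b h0 k.o N, Res.sd_H h F b h0 k.o.1 N⟩)
      (by rcases ht with rfl | rfl | rfl <;> exact fun e => by cases e)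
      (by rcases ht with rfl | rfl | rfl <;> exact (ZI_bil k.o.1).1)
      (by rcases ht with rfl | rfl | rfl <;> exact (ZI_bil k.o.1).2)
      (by rcases ht with rfl | rfl | rfl <;> exact fun u hu => cO_sq b h0 hu)
      (by rcases ht with rfl | rfl | rfl <;>
        exact fun u hu k1 k2 => cO_bil b h0 k.o.1 c.prime hu (fun e => k1 e trivial) k2)
    exact ⟨K, _, _, _, d, f, m, e, h3, semiD_O b h0 h2 k ht c.prime, ssD_O b h0 h2 k ht c.prime⟩

/-- the defining characteristic from the rows -/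
theorem sdef_of (R : Rows) : On (pRes qDef) := on_of boxMd R

end Cfsg.Agent.N2C.RD
end

private theorem dce_e446e2f5a3f3 : _root_.True := by
  try have : _root_.True := by simp only [_root_.Cfsg.Agent.N2.cc.eq_1]
  try have : _root_.True := by simp only [_root_.Cfsg.Agent.SB.Cl.rk.eq_1]
  try have : _root_.True := by simp only [_root_.Cfsg.Agent.N2C.Sz.ni.congr_simp]
  exact _root_.True.intro
end
end
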